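import Cfsg.Agent.Lib.MinIndexU4.Geometry

/-!
# Minimal index in `SU₄(q)`: `M` is a Borel subgroup and `W` is the line of `e₁`

Then a point `u` on the line of `e₀, e₁` is a root point; either all root points lie on that line,
or there are more than `q²` of them.
-/

set_option autoImplicit false
set_option linter.unusedSectionVars false

namespace Cfsg.Agent.Lib.MinIndexU4

open Matrix

variable {F : Type*} [Field F] [Fintype F] {q : ℕ} {D : Dat F q} {H : Subgroup (GJ D)}

/-- The root points on the line. -/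
noncomputable def upt (D : Dat F q) (μ : F) : Fin 4 → F := ![D.dl * cj D μ, 1, 0, 0]

theorem isTv_upt (c : fix D) (μ : F) :
    ∀ k : fix D, (c : F) = -(D.dl * D.dl * k) →
      IsTv (R D ((c : F) * μ, 0) (c * nm D μ) * lev D (su D c)) (upt D μ) k := by
  intro k hk v
  rw [act_mul, act_lev, act_R]
  funext i
  fin_cases i <;> simp [su, upt, bf, hk] <;> ring

theorem root_upt (μ : F)
    (h : ∀ c : fix D, R D ((c : F) * μ, 0) (c * nm D μ) * lev D (su D c) ∈ H) :
    Root H (upt D μ) := by
  intro k
  let c : fix D := ⟨-(D.dl * D.dl * k), by rw [mem_fix]; simp⟩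
  exact ⟨_, h c, isTv_upt c μ k rfl⟩

theorem isIso_upt (μ : F) : IsIso D (upt D μ) :=
  ⟨fun h => one_ne_zero (congrFun h 1), Lsub_iso D ⟨rfl, rfl⟩ ⟨rfl, rfl⟩⟩

theorem exists_scalar (hq : 3 ≤ q) : ∃ z : (fix D)ˣ, (z : fix D) ≠ 1 ∧
    (4 ≤ q → (z : fix D) * z ≠ 1) := by
  classical
  haveI : Fintype (fix D) := Fintype.ofFinite _
  have hK : (Finset.univ : Finset (fix D)).card = q := by
    rw [Finset.card_univ, ← Nat.card_eq_fintype_card, card_fix]
  by_cases h4 : 4 ≤ q
  · obtain ⟨z, -, hz⟩ := Finset.exists_mem_notMem_of_card_lt_card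
      (s := ({0, 1, -1} : Finset (fix D))) (t := Finset.univ) (by
        have := Finset.card_le_three (a := (0 : fix D)) (b := 1) (c := -1)
        omega)
    simp only [Finset.mem_insert, Finset.mem_singleton, not_or] at hz
    refine ⟨Units.mk0 z hz.1, hz.2.1, fun _ e => ?_⟩
    rcases mul_self_eq_one_iff.1 e with e | e
    · exact hz.2.1 e
    · exact hz.2.2 e
  · obtain ⟨z, -, hz⟩ := Finset.exists_mem_notMem_of_card_lt_card
      (s := ({0, 1} : Finset (fix D))) (t := Finset.univ) (by
        have := Finset.card_le_two (a := (0 : fix D)) (b := 1)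
        omega)
    simp only [Finset.mem_insert, Finset.mem_singleton, not_or] at hz
    exact ⟨Units.mk0 z hz.1, hz.2, fun h => absurd h h4⟩

theorem exists_norm' (k : fix D) : ∃ w : F, nm D w = k := by
  by_cases h : k = 0
  · exact ⟨0, by rw [h]; exact Subtype.ext (by simp)⟩
  · obtain ⟨w, hw⟩ := PSUAut.exists_norm D.card (k : F) k.2
    exact ⟨w, Subtype.ext (by simpa [cj] using hw)⟩

theorem exists_root (hq : 3 ≤ q) (hZ : ZH D H = ⊥) (hW : Nat.card (WH D H) = q ^ 2)
    (hsu : ∀ c, su D c ∈ MH D H) (hsd : ∀ z, sd D z ∈ MH D H) :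
    ∃ μ : F, Root H (upt D μ) ∧ ∀ ν : F, (ν, 0) ∈ WH D H := by
  have hcl := closed_of_card hZ hW
  have hline : ∀ ν : F, (ν, 0) ∈ WH D H := by
    have hinj : Function.Injective fun x : WH D H => x.1.1 := by
      rintro ⟨x, hx⟩ ⟨y, hy⟩ e
      exact Subtype.ext (Prod.ext e ((WH_line_closed hq hZ hcl hsu hx).trans
        (WH_line_closed hq hZ hcl hsu hy).symm))
    intro ν
    obtain ⟨⟨x, hx⟩, e⟩ := ((Nat.bijective_iff_injective_and_card _).2
      ⟨hinj, by rw [hW, natCard_F D]⟩).surjective ν
    convert hx using 1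
    exact Prod.ext e.symm (WH_line_closed hq hZ hcl hsu hx).symm
  choose φ hφ using hline
  have hφadd : ∀ μ ν, φ (μ + ν) = φ μ + φ ν := fun μ ν => by
    refine R_unique hZ (hφ _) ?_
    have := H.mul_mem (hφ μ) (hφ ν)
    rw [R_mul] at this
    convert this using 2
    · simp
    · exact Subtype.ext (by simp)
  -- the central coordinates of the lifts of `su c`
  have hlift : ∀ c, ∃ d, R D 0 d * lev D (su D c) ∈ H := by
    intro c
    obtain ⟨x, k, hg⟩ := mem_MH.1 (hsu c)
    have hx2 : x.2 = 0 := by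
      refine tr_nondeg D fun ν => ?_
      have h := H.mul_mem (H.mul_mem hg (hφ ν)) (H.inv_mem hg)
      rw [conj_R, app_su, corr_su] at h
      simp only [mul_zero, add_zero] at h
      have h0 := R_unique hZ h (hφ ν)
      have e := congrArg (fun k : fix D => (k : F)) h0
      refine Subtype.ext ?_
      simp [om] at e ⊢
      linear_combination -e
    refine ⟨φ (-x.1) + k, ?_⟩
    have h := H.mul_mem (hφ (-x.1)) hg
    rw [← mul_assoc, R_mul] at h
    convert h using 3
    · ext <;> simp [hx2]
    · exact Subtype.ext (by simp [hx2])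
  choose d hd using hlift
  have d_eq : ∀ {c e}, R D 0 e * lev D (su D c) ∈ H → d c = e := fun {c e} h => by
    refine R_unique hZ (x := 0) (k := d c - e) (l := 0) ?_ (by rw [R_zero]; exact H.one_mem) |>
      sub_eq_zero.1
    have := H.mul_mem (hd c) (H.inv_mem h)
    rw [_root_.mul_inv_rev, ← mul_assoc, mul_inv_cancel_right, R_inv, R_mul] at this
    convert this using 2
    · simp
    · exact Subtype.ext (by simp; ring)
  have dadd : ∀ b c, d (b + c) = d b + d c := fun b c => by
    refine d_eq ?_
    have := H.mul_mem (hd b) (hd c)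
    rw [mul_assoc, ← mul_assoc (lev D (su D b)), lev_R, app_su, corr_su, mul_assoc, ← map_mul,
      ← su_add, ← mul_assoc, R_mul] at this
    convert this using 3
    · ext <;> simp
    · exact Subtype.ext (by simp)
  -- the diagonal element
  obtain ⟨z, hz1, hz4⟩ := exists_scalar (D := D) hq
  obtain ⟨y, k0, hσ⟩ := mem_MH.1 (hsd z)
  have hzm : (z : fix D) - 1 ≠ 0 := sub_ne_zero.2 hz1
  set s : fix D := -(z : fix D) / ((z : fix D) - 1) with hs
  have hφlin : ∀ ν, φ ν = s * tr D ν y.2 := by
    intro ν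
    set μ := ((((z : fix D) - 1)⁻¹ : fix D) : F) * ν with hμ
    have h := H.mul_mem (H.mul_mem hσ (hφ μ)) (H.inv_mem hσ)
    rw [conj_R, app_sd, corr_sd] at h
    simp only [mul_zero, add_zero] at h
    have h' := R_unique hZ h (hφ _)
    have e : ((z : fix D) : F) * μ = μ + ν := by
      have := hzm
      rw [hμ]
      have e1 : (((z : fix D) - 1 : fix D) : F) * ((((z : fix D) - 1)⁻¹ : fix D) : F) = 1 := by
        rw [← Subfield.coe_mul, mul_inv_cancel₀ hzm, Subfield.coe_one]
      simp only [Subfield.coe_sub, Subfield.coe_one] at e1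
      linear_combination ν * e1
    rw [e, hφadd] at h'
    have hn : φ ν = om D y (μ + ν, 0) := by linear_combination -h'
    rw [hn, hs]
    refine Subtype.ext ?_
    rw [← e, hμ]
    simp [om]
    ring
  set B : fix D := nm D y.2 * (1 + 2 * s) with hB
  have hscale : ∀ c : fix D, d ((z : fix D) * z * c) = d c + (z : fix D) * z * c * B := by
    intro c
    refine d_eq ?_
    set c' : fix D := (z : fix D) * z * c with hc'
    have h := H.mul_mem (hφ ((c' : F) * y.2)) (H.mul_mem (H.mul_mem hσ (hd c)) (H.inv_mem hσ))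
    have e1 : R D y k0 * lev D (sd D z) * (R D 0 (d c) * lev D (su D c)) *
        (R D y k0 * lev D (sd D z))⁻¹ =
        R D y k0 * R D 0 (d c) * (lev D (su D c') * (R D y k0)⁻¹) := by
      rw [_root_.mul_inv_rev, ← mul_assoc (R D y k0 * lev D (sd D z)), mul_assoc (R D y k0) (lev D (sd D z)),
        lev_R]
      simp only [mul_assoc]
      congr 1
      rw [show app D (sd D z) (0 : F × F) = 0 by simp [app_sd], corr_sd, add_zero]
      congr 1
      rw [← mul_assoc, ← map_mul, sd_su, map_mul, mul_assoc, ← hc', mul_inv_cancel_left]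
    rw [e1, R_inv, lev_R, app_su, corr_su, R_mul, ← mul_assoc, ← mul_assoc, R_mul, R_mul] at h
    convert h using 3
    · ext <;> simp
    · rw [hφlin, hB]
      exact Subtype.ext (by simp; ring)
  obtain ⟨κ, hκ⟩ : ∃ κ : fix D, ∀ c, d c = c * κ := by
    by_cases h4 : 4 ≤ q
    · have hw : (z : fix D) * z - 1 ≠ 0 := sub_ne_zero.2 (hz4 h4)
      refine ⟨(z : fix D) * z * B / ((z : fix D) * z - 1), fun c => ?_⟩
      obtain ⟨u, rfl⟩ : ∃ u, c = u * ((z : fix D) * z - 1) := ⟨_, (div_mul_cancel₀ c hw).symm⟩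
      have h := hscale u
      rw [show (z : fix D) * z * u = u + u * ((z : fix D) * z - 1) by ring, dadd] at h
      rw [eq_comm, mul_assoc, mul_div_cancel₀ _ hw]
      linear_combination -h
    · have hq3 : Nat.card (fix D) = 3 := by rw [card_fix]; omega
      refine ⟨d 1, ?_⟩
      let S : AddSubgroup (fix D) :=
        { carrier := {c | d c = c * d 1}
          zero_mem' := by
            show d 0 = 0 * d 1
            have := dadd 0 0
            rw [add_zero] at this
            rw [zero_mul]; linear_combination this.symm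
          add_mem' := fun {a b} ha hb => by
            show d (a + b) = (a + b) * d 1
            rw [dadd, show d a = _ from ha, show d b = _ from hb, add_mul]
          neg_mem' := fun {a} ha => by
            show d (-a) = (-a) * d 1
            have h0 := dadd 0 0
            rw [add_zero] at h0
            have := dadd a (-a)
            rw [add_neg_cancel, show d a = _ from ha] at this
            linear_combination -this - h0 }
      have htop : S = ⊤ := by
        haveI : Fact (Nat.Prime (Nat.card (fix D))) := ⟨hq3 ▸ Nat.prime_three⟩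
        refine S.eq_bot_or_eq_top_of_prime_card.resolve_left fun e => one_ne_zero
          (AddSubgroup.mem_bot.1 (e ▸ (show (1 : fix D) ∈ S from (one_mul _).symm)))
      intro c
      exact (htop ▸ AddSubgroup.mem_top c : c ∈ S)
  obtain ⟨w, hw⟩ := exists_norm' (κ + s * s * nm D y.2)
  refine ⟨(s : F) * y.2 + w, root_upt _ fun c => ?_, fun ν => ⟨φ ν, hφ ν⟩⟩
  have h := H.mul_mem (hφ ((c : F) * ((s : F) * y.2 + w))) (hd c)
  rw [← mul_assoc, R_mul] at h
  convert h using 3
  · simp
  · rw [hκ, hφlin]
    refine Subtype.ext ?_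
    have e := congrArg (fun k : fix D => (k : F)) hw
    simp at e
    simp
    linear_combination (c : F) * e

/-- The Borel case. -/
theorem borel_case (hq : 3 ≤ q) (ha : ¬ Root H va) (hZ : ZH D H = ⊥)
    (hW : Nat.card (WH D H) = q ^ 2) (hm : Nat.card (MH D H) ≤ q * (q - 1))
    (hsu : ∀ c, su D c ∈ MH D H) (hsd : ∀ z, sd D z ∈ MH D H) : target q ≤ H.index := by
  classical
  obtain ⟨μ0, hu, hline⟩ := exists_root hq hZ hW hsu hsd
  choose φ hφ using hline
  set u := upt D μ0 with hudef
  by_cases hin : ∀ v, IsIso D v → Root H v → v ∈ (Lsub : Submodule F (Fin 4 → F))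
  · by_cases hone : ∀ v, IsIso D v → Root H v → ∃ s : F, v = s • u
    · exact index_ge_of_fix D (isIso_upt μ0) fun g hg => hone _
        ⟨fun e => (isIso_upt (D := D) μ0).1 (by rw [← act_inv_act g (upt D μ0), e]; simp [act]),
          (bf_act g _ _).trans (isIso_upt μ0).2⟩ (hu.map hg)
    push Not at hone
    obtain ⟨v', hv'i, hv'r, hv'⟩ := hone
    obtain ⟨h2, h3⟩ := hin v' hv'i hv'r
    have hw : v' 0 - v' 1 * (D.dl * cj D μ0) ≠ 0 := fun e => hv' (v' 1) (by
      funext i
      fin_cases i <;> simp [hudef, upt, h2, h3]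
      linear_combination e)
    refine index_ge_of_line D fun g hg v hv => ?_
    set β := (v 0 - v 1 * (D.dl * cj D μ0)) / (v' 0 - v' 1 * (D.dl * cj D μ0)) with hβ
    have hcomb : v = (v 1 - β * v' 1) • u + β • v' := by
      have e : β * (v' 0 - v' 1 * (D.dl * cj D μ0)) = v 0 - v 1 * (D.dl * cj D μ0) :=
        div_mul_cancel₀ _ hw
      funext i
      fin_cases i <;> simp [hudef, upt, h2, h3, hv.1, hv.2]
      linear_combination -e
    rw [hcomb, act_add, act_smul, act_smul]
    have hmem : ∀ w, IsIso D w → Root H w → act g w ∈ (Lsub : Submodule F (Fin 4 → F)) :=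
      fun w hw hr => hin _ ⟨fun e => hw.1 (by rw [← act_inv_act g w, e]; simp [act]),
        (bf_act g _ _).trans hw.2⟩ (hr.map hg)
    exact Submodule.add_mem _ (Submodule.smul_mem _ _ (hmem _ (isIso_upt μ0) hu))
      (Submodule.smul_mem _ _ (hmem _ hv'i hv'r))
  push Not at hin
  obtain ⟨r, hri, hrr, hrL⟩ := hin
  have hr23 : r 2 ≠ 0 ∨ r 3 ≠ 0 := by
    by_contra h
    push Not at h
    exact hrL h
  let img : Option F → Fin 4 → F := fun o => o.elim u fun μ => act (R D (μ, 0) (φ μ)) r
  have himg : ∀ o, IsIso D (img o) ∧ Root H (img o) := by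
    rintro (_ | μ)
    · exact ⟨isIso_upt μ0, hu⟩
    · exact ⟨⟨fun e => hri.1 (by
        rw [← act_inv_act (R D (μ, 0) (φ μ)) r, show act (R D (μ, 0) (φ μ)) r = 0 from e]
        simp [act]), (bf_act _ _ _).trans hri.2⟩, hrr.map (hφ μ)⟩
  have hinj : Function.Injective fun p : Option F × Fˣ =>
      (⟨(p.2 : F) • img p.1,
        ⟨smul_ne_zero p.2.ne_zero (himg p.1).1.1, by
          rw [bf_smul_right, show bf D ((p.2 : F) • img p.1) (img p.1) =
            (p.2 : F) * bf D (img p.1) (img p.1) by simp [bf]; ring, (himg p.1).1.2,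
            mul_zero, mul_zero]⟩, (himg p.1).2.smul _⟩ :
        {v : Fin 4 → F // IsIso D v ∧ Root H v}) := by
    rintro ⟨o, s⟩ ⟨o', t⟩ e
    have e' : (s : F) • img o = (t : F) • img o' := congrArg Subtype.val e
    have e2 := congrFun e' 2
    have e3 := congrFun e' 3
    have hs := s.ne_zero
    have ht := t.ne_zero
    rcases o with _ | μ <;> rcases o' with _ | μ'
    · have e1 := congrFun e' 1
      simp [img, hudef, upt] at e1
      rw [Units.ext e1]
    · simp [img, hudef, upt, act_R] at e2 e3
      rcases hr23 with h | h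
      · exact absurd e2 h
      · exact absurd e3 h
    · simp [img, hudef, upt, act_R] at e2 e3
      rcases hr23 with h | h
      · exact absurd e2 h
      · exact absurd e3 h
    · simp [img, act_R] at e2 e3
      have hst : (s : F) = t := by
        rcases hr23 with h | h
        · exact e2.resolve_right h
        · exact e3.resolve_right h
      have e0 := congrFun e' 0
      have e1 := congrFun e' 1
      simp [img, act_R, hst, ht] at e0 e1
      have hμ : μ = μ' := by
        rcases e1 with h | h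
        · exact h
        · simp [h] at e0
          exact (cj D).injective
            ((e0.resolve_right (hr23.resolve_right (not_not.2 h))).resolve_right D.dl_ne)
      rw [hμ, Units.ext hst]
  have hbad : (q ^ 2 - 1) * (q ^ 2 + 1) ≤ Nat.card {v : Fin 4 → F // IsIso D v ∧ Root H v} := by
    have := Nat.card_le_card_of_injective _ hinj
    rw [Nat.card_prod, Finite.card_option, natCard_F D, natCard_units D] at this
    rwa [mul_comm]
  have hsplit : Nat.card {v : Fin 4 → F // IsIso D v ∧ Root H v} +
      Nat.card {v : Fin 4 → F // IsIso D v ∧ ¬ Root H v} =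
        (q ^ 2 - 1) * ((q ^ 2 + 1) * (q ^ 3 + 1)) := by
    rw [← card_isIso D, Nat.card_eq_fintype_card, Nat.card_eq_fintype_card,
      Nat.card_eq_fintype_card, Fintype.card_subtype, Fintype.card_subtype, Fintype.card_subtype,
      ← Finset.card_union_of_disjoint (by
        rw [Finset.disjoint_filter]; exact fun v _ h h' => h'.2 h.2)]
    congr 1
    ext v
    simp
    tauto
  have horb : (Pst D).relIndex H ≤ q ^ 3 * (q ^ 2 + 1) := by
    have hpos : 0 < q ^ 2 - 1 := by
      have : 9 ≤ q ^ 2 := by nlinarith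
      omega
    refine Nat.le_of_mul_le_mul_left ?_ hpos
    have e : (q ^ 2 - 1) * ((q ^ 2 + 1) * (q ^ 3 + 1)) =
        (q ^ 2 - 1) * (q ^ 2 + 1) + (q ^ 2 - 1) * (q ^ 3 * (q ^ 2 + 1)) := by ring
    have := orbit_le ha
    omega
  have hHP : Nat.card (H ⊓ Pst D : Subgroup (GJ D)) ≤ (q ^ 2 - 1) * (q * (q - 1) * q ^ 2) := by
    rw [card_inf, hW, hZ, AddSubgroup.card_bot, mul_one]
    exact Nat.mul_le_mul DH_card_le (Nat.mul_le_mul_right _ hm)
  have e := index_mul H
  rw [index_Pst, card_Pst'] at e
  have h1 : (q ^ 2 + 1) * (q ^ 3 + 1) * ((q ^ 2 - 1) * (q * (q ^ 2 - 1) * q ^ 5)) ≤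
      H.index * ((q ^ 2 - 1) * (q * (q - 1) * q ^ 2)) * (q ^ 3 * (q ^ 2 + 1)) := by
    rw [← e]
    exact Nat.mul_le_mul (Nat.mul_le_mul_left _ hHP) horb
  obtain ⟨t, rfl⟩ := Nat.exists_eq_add_of_le (show 1 ≤ q by omega)
  rw [Nat.add_sub_cancel_left] at h1
  rw [show (1 + t) ^ 2 - 1 = t * (2 + t) from Nat.sub_eq_of_eq_add (by ring)] at h1
  have hpos : 0 < t * (2 + t) * t * (1 + t) ^ 6 * ((1 + t) ^ 2 + 1) := by
    have : 0 < t := by omega
    positivity
  refine Nat.le_of_mul_le_mul_right ?_ hpos
  calc target (1 + t) * (t * (2 + t) * t * (1 + t) ^ 6 * ((1 + t) ^ 2 + 1))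
      = _ := by unfold target; ring
    _ ≤ _ := h1
    _ = _ := by ring

end Cfsg.Agent.Lib.MinIndexU4
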