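import Cfsg.Agent.Lib.MinIndexU4.Exclude

/-!
# Minimal index in `SU₄(q)`: from the data at the point `a` to the index, scalars, conjugation
-/

set_option autoImplicit false
set_option linter.unusedSectionVars false

namespace Cfsg.Agent.Lib.MinIndexU4

open Matrix

variable {F : Type*} [Field F] [Fintype F] {q : ℕ} {D : Dat F q}

/-- The number of totally isotropic lines. -/
def target (q : ℕ) : ℕ := (q + 1) * (q ^ 3 + 1)

variable (H : Subgroup (GJ D))

theorem index_mul : H.index * Nat.card (H ⊓ Pst D : Subgroup (GJ D)) * (Pst D).relIndex H =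
    (Pst D).index * Nat.card (Pst D) := by
  have h2 := ((Pst D).subgroupOf H).card_mul_index
  rw [← Subgroup.inf_subgroupOf_left,
    Nat.card_congr (Subgroup.subgroupOfEquivOfLe inf_le_left).toEquiv] at h2
  rw [(Pst D).index_mul_card, mul_assoc]
  conv_rhs => rw [← H.index_mul_card]
  rw [← h2]
  congr 2
  show ((Pst D).subgroupOf H).index = _
  rw [← Subgroup.inf_subgroupOf_left]

theorem orbit_le_index : (Pst D).relIndex H ≤ (Pst D).index := by
  rw [← Subgroup.relIndex_top_right]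
  exact Subgroup.relIndex_le_of_le_right le_top
    (by rw [Subgroup.relIndex_top_right]; exact Subgroup.index_ne_zero_of_finite)

theorem index_ge {N : ℕ} (h : N * Nat.card (H ⊓ Pst D : Subgroup (GJ D)) ≤ Nat.card (Pst D)) :
    N ≤ H.index := by
  have e := index_mul H
  have hpos : 0 < (Pst D).relIndex H * Nat.card (H ⊓ Pst D : Subgroup (GJ D)) :=
    Nat.mul_pos (Nat.pos_of_ne_zero Subgroup.index_ne_zero_of_finite) Nat.card_pos
  refine Nat.le_of_mul_le_mul_right ?_ hpos
  calc N * ((Pst D).relIndex H * Nat.card (H ⊓ Pst D : Subgroup (GJ D)))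
      = (Pst D).relIndex H * (N * Nat.card (H ⊓ Pst D : Subgroup (GJ D))) := by ring
    _ ≤ (Pst D).index * Nat.card (Pst D) := Nat.mul_le_mul (orbit_le_index H) h
    _ = _ := by rw [← e]; ring

theorem card_inf : Nat.card (H ⊓ Pst D : Subgroup (GJ D)) =
    Nat.card (DH D H) * Nat.card (ZH D H) * (Nat.card (MH D H) * Nat.card (WH D H)) := by
  rw [card_inf_Pst, card_inf_Fa]; ring

variable {H}

/-- The orbit of `a` avoids the root points. -/
theorem orbit_le (ha : ¬ Root H va) :
    (q ^ 2 - 1) * (Pst D).relIndex H ≤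
      Nat.card {v : Fin 4 → F // IsIso D v ∧ ¬ Root H v} := by
  have hmap : ∀ (h : H) (s : Fˣ), IsIso D ((s : F) • act h.1 va) ∧
      ¬ Root H ((s : F) • act h.1 va) := by
    intro h s
    refine ⟨⟨fun e => va_ne (F := F) ?_, ?_⟩, fun hr => ha ?_⟩
    · have e' := (smul_eq_zero.1 e).resolve_left s.ne_zero
      rw [← act_inv_act h.1 va, e']; simp [act]
    · rw [bf_smul_right, show bf D ((s : F) • act h.1 va) (act h.1 va)
        = (s : F) * bf D (act h.1 va) (act h.1 va) by simp [bf]; ring, bf_act, (isIso_va D).2,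
        mul_zero, mul_zero]
    · have := (hr.smul ((s⁻¹ : Fˣ) : F)).map (H.inv_mem h.2)
      rwa [smul_smul, Units.inv_mul, one_smul, act_inv_act] at this
  rw [show (Pst D).relIndex H = Nat.card (H ⧸ (Pst D).subgroupOf H) from rfl,
    ← natCard_units D, ← Nat.card_prod]
  refine Nat.card_le_card_of_injective (fun p => ⟨_, hmap p.2.out p.1⟩) ?_
  rintro ⟨s, x⟩ ⟨t, y⟩ e
  have e' : (s : F) • act x.out.1 va = (t : F) • act y.out.1 va := congrArg Subtype.val e
  have hxy : x = y := by
    rw [← x.out_eq, ← y.out_eq]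
    refine QuotientGroup.eq.2 ?_
    refine ⟨s * t⁻¹, ?_⟩
    show act (x.out.1⁻¹ * y.out.1) va = _
    have e2 : act y.out.1 va = ((s * t⁻¹ : Fˣ) : F) • act x.out.1 va := by
      rw [mul_comm s, Units.val_mul, ← smul_smul, e', smul_smul, Units.inv_mul, one_smul]
    rw [act_mul, e2, act_smul, act_inv_act]
  subst hxy
  have hst : ((s : F) - t) • act x.out.1 va = 0 := by rw [sub_smul, e', sub_self]
  have hne : act x.out.1 va ≠ 0 := fun h0 => va_ne (F := F) (by
    rw [← act_inv_act x.out.1 va, h0]; simp [act])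
  rw [Units.ext (sub_eq_zero.1 ((smul_eq_zero.1 hst).resolve_right hne))]

theorem DH_card_le : Nat.card (DH D H) ≤ q ^ 2 - 1 := by
  rw [← natCard_units D]; exact Subgroup.card_le_card_group _

/-- The scalars stabilise the central part. -/
theorem DZ_cases (ha : ¬ Root H va) :
    Nat.card (DH D H) * Nat.card (ZH D H) ≤ q ^ 2 - 1 ∧
      (ZH D H ≠ ⊥ → (q + 1) * (Nat.card (DH D H) * Nat.card (ZH D H)) ≤ q * (q ^ 2 - 1)) := by
  by_cases h0 : ZH D H = ⊥
  · exact ⟨by rw [h0, AddSubgroup.card_bot, mul_one]; exact DH_card_le, fun h => absurd h0 h⟩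
  let Sc : Set (fix D) := {c | ∃ t ∈ DH D H, c = nm D t}
  have hstab := MinIndexSp.scalar_stab (ZH D H) h0 (ZH_ne_top ha) Sc (by
    rintro c ⟨t, ht, rfl⟩
    exact ⟨fun e => t.ne_zero (by simpa using congrArg (fun k : fix D => (k : F)) e),
      fun k hk => DH_stab ht hk⟩)
  rw [card_fix] at hstab
  have hD : Nat.card (DH D H) ≤ (q + 1) * Nat.card Sc := by
    have h := card_map_mul (DH D H) (powMonoidHom (q + 1) : Fˣ →* Fˣ)
    rw [h, mul_comm (q + 1)]
    refine Nat.mul_le_mul ?_ ?_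
    · refine Nat.card_le_card_of_injective (fun u => ⟨⟨((u : Fˣ) : F), ?_⟩, ?_⟩) ?_
      · obtain ⟨t, -, ht⟩ := u.2
        rw [← ht, mem_fix, cj_pow]
        simp only [powMonoidHom_apply, Units.val_pow_eq_pow_val]
        rw [← pow_mul, show (q + 1) * q = q ^ 2 + q by ring, pow_add, ← D.card, FiniteField.pow_card,
          ← pow_succ']
      · obtain ⟨t, ht, e⟩ := u.2
        refine ⟨t, ht, Subtype.ext ?_⟩
        show ((u : Fˣ) : F) = (t : F) * cj D t
        rw [← e, cj_pow, powMonoidHom_apply, Units.val_pow_eq_pow_val, pow_succ']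
      · intro u v e
        exact Subtype.ext (Units.ext (congrArg (fun c : Sc => ((c : fix D) : F)) e))
    · refine le_trans ?_ (Classical.natCard_normOne D.card).le
      refine Nat.card_le_card_of_injective (fun u => ⟨((u : Fˣ) : F), ?_⟩) ?_
      · have := u.2.1
        change (u : Fˣ) ^ (q + 1) = 1 at this
        rw [← Units.val_pow_eq_pow_val, this, Units.val_one]
      · intro u v e
        exact Subtype.ext (Units.ext (congrArg Subtype.val e))
  have hq := two_le D
  obtain ⟨t, rfl⟩ := Nat.exists_eq_add_of_le hq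
  have key : Nat.card (DH D H) * Nat.card (ZH D H) ≤ (2 + t + 1) * t := by
    calc _ ≤ (2 + t + 1) * Nat.card Sc * Nat.card (ZH D H) := Nat.mul_le_mul_right _ hD
      _ = (2 + t + 1) * (Nat.card (ZH D H) * Nat.card Sc) := by ring
      _ ≤ _ := Nat.mul_le_mul_left _ (by omega)
  have e : (2 + t) ^ 2 - 1 = (2 + t + 1) * (t + 1) :=
    Nat.sub_eq_of_eq_add (by ring)
  rw [e]
  refine ⟨key.trans (Nat.mul_le_mul_left _ (by omega)), fun _ => ?_⟩
  calc _ ≤ (2 + t + 1) * ((2 + t + 1) * t) := Nat.mul_le_mul_left _ key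
    _ ≤ _ := by
      rw [mul_left_comm (2 + t)]
      refine Nat.mul_le_mul_left _ ?_
      nlinarith

/-- The conjugate of `H`. -/
def conjH (g : GJ D) (H : Subgroup (GJ D)) : Subgroup (GJ D) :=
  H.map (MulAut.conj g).toMonoidHom

theorem mem_conjH {g x : GJ D} : x ∈ conjH g H ↔ g⁻¹ * x * g ∈ H := by
  constructor
  · rintro ⟨h, hh, rfl⟩
    simpa [mul_assoc] using hh
  · intro h
    exact ⟨_, h, by simp [mul_assoc]⟩

theorem index_conjH (g : GJ D) : (conjH g H).index = H.index :=
  Subgroup.index_map_equiv H (MulAut.conj g)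

theorem conj_mem {g x : GJ D} (hx : x ∈ H) : g * x * g⁻¹ ∈ conjH g H := ⟨x, hx, rfl⟩

theorem root_conjH {g : GJ D} {u : Fin 4 → F} (hr : Root (conjH g H) u) :
    Root H (act g⁻¹ u) := fun k => by
  obtain ⟨h, hh, hT⟩ := hr k
  exact ⟨_, by simpa using mem_conjH.1 hh, hT.conj g⁻¹⟩

theorem nonroot_conjH {g : GJ D} (hg : g ∈ Fa D) (ha : ¬ Root H va) : ¬ Root (conjH g H) va :=
  fun h => ha (by
    have h' := root_conjH h
    rwa [show act g⁻¹ va = va from (Fa D).inv_mem hg] at h')

theorem conjH_ne_top {g : GJ D} (hH : H ≠ ⊤) : conjH g H ≠ ⊤ := fun e =>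
  hH (Subgroup.index_eq_one.1 (by rw [← index_conjH g, e, Subgroup.index_top]))

theorem MH_conjH_lev (S T : SpecialLinearGroup (Fin 2) (fix D)) (hT : T ∈ MH D H) :
    S * T * S⁻¹ ∈ MH D (conjH (lev D S) H) := by
  obtain ⟨x, k, h⟩ := mem_MH.1 hT
  refine mem_MH.2 ⟨app D S x, k + corr D S x, ?_⟩
  have e := conj_mem (g := lev D S) h
  rw [← mul_assoc, lev_R, mul_assoc, mul_assoc, ← map_inv, ← map_mul, ← map_mul, ← mul_assoc] at e
  exact e

end Cfsg.Agent.Lib.MinIndexU4
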