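import Cfsg.Agent.Lib.MinIndexU4.Transfer
import Cfsg.Agent.Lib.MinIndexSp.Count

/-!
# Minimal index in `SU₄(q)`: commutators of `H ∩ Rad`, the size of `W`, and the exclusion of
vectors of `W` outside `e₁` when the transvections at `e₁` lie in `M`
-/

set_option autoImplicit false
set_option linter.unusedSectionVars false

namespace Cfsg.Agent.Lib.MinIndexU4

open Matrix

variable {F : Type*} [Field F] [Fintype F] {q : ℕ} (D : Dat F q)

/-- The commutator form. -/
noncomputable def om (x z : F × F) : fix D := tr D x.1 z.2 - tr D z.1 x.2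

theorem smul_def (r : fix D) (u : F) : r • u = (r : F) * u := rfl

/-- The commutator form as a bilinear form over the fixed field. -/
noncomputable def omL : LinearMap.BilinForm (fix D) (F × F) :=
  LinearMap.mk₂ (fix D) (om D)
    (fun x x' z => Subtype.ext (by simp [om]; ring))
    (fun r x z => Subtype.ext (by simp [om, smul_def]; ring))
    (fun x z z' => Subtype.ext (by simp [om]; ring))
    (fun r x z => Subtype.ext (by simp [om, smul_def]; ring))

@[simp] theorem omL_apply (x z : F × F) : omL D x z = om D x z := rfl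

theorem R_conj (x z : F × F) (k l : fix D) :
    R D x k * R D z l * (R D x k)⁻¹ = R D z (l + om D x z) := by
  rw [R_mul, R_inv, R_mul]
  congr 1
  · simp
  · exact Subtype.ext (by simp [om]; ring)

theorem conj_R (x y : F × F) (k l : fix D) (S : SpecialLinearGroup (Fin 2) (fix D)) :
    R D x k * lev D S * R D y l * (R D x k * lev D S)⁻¹ =
      R D (app D S y) (l + corr D S y + om D x (app D S y)) := by
  have h1 : lev D S * R D y l * (lev D S)⁻¹ = R D (app D S y) (l + corr D S y) := by
    rw [lev_R, mul_inv_cancel_right]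
  rw [← R_conj D x (app D S y) k, ← h1]
  group

@[simp] theorem coe_two : ((2 : fix D) : F) = 2 := map_ofNat (fix D).subtype 2

theorem exists_trace : ∃ a : F, a + cj D a ≠ 0 := by
  by_contra h
  push Not at h
  refine Forms.qPowHom_ne_id D.card (RingHom.ext fun x => ?_)
  have h2 : (1 : F) + 1 = 0 := by simpa using h 1
  show cj D x = x
  linear_combination h x - x * h2

theorem tr_nondeg {u : F} (h : ∀ v, tr D u v = 0) : u = 0 := by
  by_contra hu
  obtain ⟨a, ha⟩ := exists_trace D
  have := congrArg (fun k : fix D => (k : F)) (h (cj D (a / u)))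
  simp [mul_div_cancel₀ _ hu] at this
  rw [mul_div_cancel₀ _ ((map_ne_zero (cj D)).2 hu)] at this
  exact ha this

theorem omL_nondeg {x : F × F} (h : ∀ s, om D x s = 0) : x = 0 := by
  refine Prod.ext (tr_nondeg D fun v => ?_) (tr_nondeg D fun v => ?_)
  · simpa [om, show tr D (0 : F) x.2 = 0 from Subtype.ext (by simp)] using h (0, v)
  · have := h (v, 0)
    simp [om, show tr D x.1 (0 : F) = 0 from Subtype.ext (by simp)] at this
    rw [← this]
    exact Subtype.ext (by simp; ring)

variable {D} {H : Subgroup (GJ D)}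

theorem om_mem {x z : F × F} (hx : x ∈ WH D H) (hz : z ∈ WH D H) : om D x z ∈ ZH D H := by
  obtain ⟨k, hk⟩ := hx
  obtain ⟨l, hl⟩ := hz
  have h := H.mul_mem (H.mul_mem (H.mul_mem hk hl) (H.inv_mem hk)) (H.inv_mem hl)
  rw [R_conj, R_inv, R_mul] at h
  show R D 0 _ ∈ H
  convert h using 2
  · simp
  · exact Subtype.ext (by simp [om]; ring)

theorem ZH_ne_top (ha : ¬ Root H va) : ZH D H ≠ ⊤ := fun h => ha (root_va_iff.2 h)

theorem mem_ZH {k : fix D} : k ∈ ZH D H ↔ R D 0 k ∈ H := Iff.rfl

theorem sub_mem_ZH {x : F × F} {k l : fix D} (hk : R D x k ∈ H) (hl : R D x l ∈ H) :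
    k - l ∈ ZH D H := by
  have h := H.mul_mem (H.inv_mem hl) hk
  rw [R_inv, R_mul, neg_add_cancel] at h
  rw [mem_ZH]
  convert h using 2
  exact Subtype.ext (by simp; ring)

theorem R_unique (hZ : ZH D H = ⊥) {x : F × F} {k l : fix D} (hk : R D x k ∈ H)
    (hl : R D x l ∈ H) : k = l := by
  have h := sub_mem_ZH hk hl
  rwa [hZ, AddSubgroup.mem_bot, sub_eq_zero] at h

theorem MH_WH {S : SpecialLinearGroup (Fin 2) (fix D)} (hS : S ∈ MH D H) {x : F × F}
    (hx : x ∈ WH D H) : app D S x ∈ WH D H := by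
  obtain ⟨y, k, hg⟩ := mem_MH.1 hS
  obtain ⟨l, hl⟩ := hx
  exact ⟨_, conj_R D y x k l S ▸ H.mul_mem (H.mul_mem hg hl) (H.inv_mem hg)⟩

theorem natCard_prod (D : Dat F q) : Nat.card (F × F) = q ^ 2 * q ^ 2 := by rw [Nat.card_prod, natCard_F D]

theorem card_isotropic_le (X : AddSubgroup (F × F)) (Z : AddSubgroup (fix D)) (hZ : Z ≠ ⊤)
    (h : ∀ x ∈ X, ∀ z ∈ X, om D x z ∈ Z) : Nat.card X ≤ q ^ 2 := by
  have h := MinIndexSp.pairing (omL D) ⊤ X X (by simp) (by simp) Z hZ
    (fun x hx z hz => h x hx z hz) ⊥ (fun x _ hx => (AddSubgroup.mem_bot).2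
      (omL_nondeg D fun s => hx s trivial))
  rw [AddSubgroup.card_bot, mul_one,
    Nat.card_congr (Submodule.topEquiv (R := fix D) (M := F × F)).toEquiv, natCard_prod D] at h
  exact Nat.mul_self_le_mul_self_iff.1 h

theorem card_WH_le (ha : ¬ Root H va) : Nat.card (WH D H) ≤ q ^ 2 :=
  card_isotropic_le _ _ (ZH_ne_top ha) fun _ hx _ hz => om_mem hx hz

variable (D) in
/-- `W` is a subspace over the fixed field. -/
def WClosed (H : Subgroup (GJ D)) : Prop := ∀ r : fix D, ∀ x ∈ WH D H, r • x ∈ WH D H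

theorem closed_of_card (hZ : ZH D H = ⊥) (hW : Nat.card (WH D H) = q ^ 2) : WClosed D H := by
  let S : Submodule (fix D) (F × F) := Submodule.span (fix D) (WH D H : Set (F × F))
  have h1 : ∀ x ∈ WH D H, ∀ z ∈ S, om D x z = 0 := fun x hx z hz => by
    refine (Submodule.span_le (p := LinearMap.ker (omL D x))).2 (fun w hw => ?_) hz
    have := om_mem hx hw
    rw [hZ, AddSubgroup.mem_bot] at this
    exact this
  have h2 : ∀ x ∈ S, ∀ z ∈ S, om D x z = 0 := fun x hx z hz =>
    (Submodule.span_le (p := LinearMap.ker ((omL D).flip z))).2 (fun w hw => h1 w hw z hz) hx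
  have htop : (⊥ : AddSubgroup (fix D)) ≠ ⊤ := fun e => one_ne_zero
    (AddSubgroup.mem_bot.1 (e ▸ AddSubgroup.mem_top (1 : fix D)))
  have hle := card_isotropic_le S.toAddSubgroup ⊥ htop fun x hx z hz =>
    (AddSubgroup.mem_bot).2 (h2 x hx z hz)
  rw [← hW] at hle
  have hsub : WH D H ≤ S.toAddSubgroup := fun x hx => Submodule.subset_span hx
  have heq := AddSubgroup.eq_of_le_of_card_ge hsub hle
  intro r x hx
  rw [heq] at hx ⊢
  exact S.smul_mem r hx

/-- The fundamental commutator of a lift of `su c` with a vector of `W`. -/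
theorem step_E {c k l : fix D} {x y : F × F} (hg : R D x k * lev D (su D c) ∈ H)
    (hy : R D y l ∈ H) :
    R D ((c : F) * y.2, 0) (om D x (y.1 + (c : F) * y.2, y.2) - c * nm D y.2) ∈ H := by
  have h := H.mul_mem (H.mul_mem (H.mul_mem hg hy) (H.inv_mem hg)) (H.inv_mem hy)
  rw [conj_R, app_su, corr_su, R_inv, R_mul] at h
  convert h using 2
  · ext <;> simp
  · exact Subtype.ext (by simp [om]; ring)

/-- In odd characteristic `W` lies in `e₁` when `M` contains its transvections. -/
theorem WH_line_odd (h2 : (2 : F) ≠ 0) (ha : ¬ Root H va) (hM : ∀ c, su D c ∈ MH D H)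
    {y : F × F} (hy : y ∈ WH D H) : y.2 = 0 := by
  by_contra hne
  refine ZH_ne_top ha (eq_top_iff.2 fun k _ => ?_)
  obtain ⟨l, hl⟩ := hy
  have hN : nm D y.2 ≠ 0 := fun e => hne (by
    have := congrArg (fun k : fix D => (k : F)) e
    simpa using this)
  have h2' : (2 : fix D) ≠ 0 := fun e => h2 (by rw [← coe_two D, e]; rfl)
  obtain ⟨c, rfl⟩ : ∃ c, k = 2 * c * nm D y.2 := ⟨k / (2 * nm D y.2), by field_simp⟩
  obtain ⟨x, kx, hg⟩ := mem_MH.1 (hM c)
  have h1 := step_E hg hl
  have h2s := H.mul_mem hl hl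
  rw [R_mul] at h2s
  have h3 := step_E hg h2s
  have h4 := H.mul_mem h1 h1
  rw [R_mul] at h4
  simp only [Prod.mk_add_mk, Prod.fst_add, Prod.snd_add, mul_add, add_zero] at h3 h4
  have h5 := sub_mem_ZH h4 h3
  convert h5 using 1
  exact Subtype.ext (by simp [om]; ring)

/-- When `Z = 0` and `W` is a subspace, `W` lies in `e₁` when `M` contains its transvections. -/
theorem WH_line_closed (hq : 3 ≤ q) (hZ : ZH D H = ⊥) (hW : WClosed D H)
    (hM : ∀ c, su D c ∈ MH D H) {y : F × F} (hy : y ∈ WH D H) : y.2 = 0 := by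
  by_contra hne
  have hN : nm D y.2 ≠ 0 := fun e => hne (by
    have := congrArg (fun k : fix D => (k : F)) e
    simpa using this)
  obtain ⟨c, hc0, hc1⟩ : ∃ c : fix D, c ≠ 0 ∧ c ≠ 1 := by
    by_contra h
    push Not at h
    haveI : Fintype (fix D) := Fintype.ofFinite _
    classical
    have hle : (Finset.univ : Finset (fix D)) ⊆ {0, 1} := fun z _ => by
      by_cases hz : z = 0
      · simp [hz]
      · simp [h z hz]
    have := (Finset.card_le_card hle).trans Finset.card_le_two
    rw [Finset.card_univ, ← Nat.card_eq_fintype_card, card_fix] at this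
    omega
  obtain ⟨xc, kc, hgc⟩ := mem_MH.1 (hM c)
  obtain ⟨x1, k1, hg1⟩ := mem_MH.1 (hM 1)
  set α : fix D := om D xc (y.1 + (c : F) * y.2, y.2) with hα
  set β : fix D := om D x1 (y.1 + y.2, y.2) with hβ
  have gen : ∀ r : fix D,
      R D ((c : F) * ((r : F) * y.2), 0) (r * α - c * (r * r * nm D y.2)) ∈ H ∧
      R D ((r : F) * y.2, 0) (r * β - r * r * nm D y.2) ∈ H := by
    intro r
    obtain ⟨l, hl⟩ := hW r y hy
    refine ⟨?_, ?_⟩
    · convert step_E hgc hl using 2
      · simp [smul_def]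
      · exact Subtype.ext (by simp [hα, om, smul_def]; ring)
    · convert step_E hg1 hl using 2
      · ext <;> simp [smul_def]
      · exact Subtype.ext (by simp [hβ, om, smul_def]; ring)
  have e1 : α - c * nm D y.2 = c * β - c * c * nm D y.2 := by
    have h := (gen 1).1
    rw [Subfield.coe_one] at h
    simp only [one_mul, mul_one] at h
    exact R_unique hZ h (gen c).2
  have e2 : c * α - c * (c * c * nm D y.2) = c * c * β - c * c * (c * c) * nm D y.2 := by
    refine R_unique hZ (gen c).1 ?_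
    simpa [mul_assoc] using (gen (c * c)).2
  have e : c * c * (c - 1) ^ 2 * nm D y.2 = 0 := by linear_combination e2 - c * e1
  simp [hc0, hN, sub_eq_zero, hc1] at e

end Cfsg.Agent.Lib.MinIndexU4
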