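import Cfsg.Agent.Lib.MinIndexU4.Proper

/-!
# Minimal index in `SU₄(q)`: the case `M = SL₂(q)`

In odd characteristic `W = 0`. In characteristic two a non-zero `W` leads to the point `e₁`, where
`M` is proper.
-/

set_option autoImplicit false
set_option linter.unusedSectionVars false

namespace Cfsg.Agent.Lib.MinIndexU4

open Matrix SL2

variable {F : Type*} [Field F] [Fintype F] {q : ℕ} {D : Dat F q} {H : Subgroup (GJ D)}

theorem app_weyl (x : F × F) :
    app D (weyl : SLtwo (fix D)) x = (x.2, -x.1) := by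
  simp [app]

theorem MH_conjH_R (y : F × F) (k : fix D) (h : MH D H = ⊤) : MH D (conjH (R D y k) H) = ⊤ := by
  refine eq_top_iff.2 fun S _ => ?_
  obtain ⟨x, l, hx⟩ := mem_MH.1 (show S ∈ MH D H from h ▸ trivial)
  have e := conj_mem (g := R D y k) hx
  rw [R_inv, ← mul_assoc, mul_assoc (R D y k * R D x l), lev_R, ← mul_assoc, R_mul, R_mul] at e
  exact mem_MH.2 ⟨_, _, e⟩

theorem WH_conjH_R (y : F × F) (k : fix D) {x : F × F} (hx : x ∈ WH D H) :
    x ∈ WH D (conjH (R D y k) H) := by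
  obtain ⟨l, hl⟩ := hx
  exact ⟨_, R_conj D y x k l ▸ conj_mem hl⟩

theorem sw_El (μ : F) (l c : fix D) : ∃ (l' c' : fix D),
    (l' : F) = -((c : F) / (D.dl * D.dl)) ∧ (c' : F) = -(D.dl * D.dl * l) ∧
    sw D * (R D (μ, 0) l * lev D (su D c)) * (sw D)⁻¹ =
      R D (-cj D μ, 0) l' * lev D (su D c') := by
  refine ⟨⟨-((c : F) / (D.dl * D.dl)), by rw [mem_fix]; simp⟩,
    ⟨-(D.dl * D.dl * l), by rw [mem_fix]; simp⟩, rfl, rfl, ?_⟩
  rw [inv_eq_of_mul_eq_one_right (sw_mul_sw D)]
  refine ext_act fun v => ?_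
  rw [act_mul, act_mul, act_mul, act_mul, act_sw, act_lev, act_R, act_lev, act_R, act_sw]
  have := D.dl_ne
  funext i
  fin_cases i <;> simp [su] <;> field_simp <;> ring

variable (D) in
/-- `W` contains both lines `w·F_q`. -/
def HasSquare (H : Subgroup (GJ D)) (w : F) : Prop :=
  ∀ r : fix D, ((r : F) * w, 0) ∈ WH D H ∧ (0, (r : F) * w) ∈ WH D H

theorem exists_square (hM : MH D H = ⊤) (hW : WH D H ≠ ⊥) :
    ∃ w : F, w ≠ 0 ∧ HasSquare D H w := by
  obtain ⟨x, hx, hx0⟩ : ∃ x ∈ WH D H, x ≠ 0 := by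
    by_contra h
    push Not at h
    exact hW ((AddSubgroup.eq_bot_iff_forall _).2 h)
  have hall : ∀ S, S ∈ MH D H := fun S => hM ▸ trivial
  obtain ⟨y, hy, hy2⟩ : ∃ y ∈ WH D H, y.2 ≠ 0 := by
    by_cases h : x.2 = 0
    · refine ⟨_, MH_WH (hall weyl) hx, ?_⟩
      rw [app_weyl]
      exact neg_ne_zero.2 fun e => hx0 (Prod.ext e h)
    · exact ⟨x, hx, h⟩
  refine ⟨y.2, hy2, fun r => ?_⟩
  have h1 : ((r : F) * y.2, 0) ∈ WH D H := by
    convert (WH D H).sub_mem (MH_WH (hall (su D r)) hy) hy using 1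
    rw [app_su]; ext <;> simp
  refine ⟨h1, ?_⟩
  convert (WH D H).neg_mem (MH_WH (hall weyl) h1) using 1
  rw [app_weyl]; ext <;> simp

theorem lift_line {z : (fix D)ˣ} (hz : lev D (sd D z) ∈ H) (hz1 : (z : fix D) ≠ 1) {w : F}
    (hsq : HasSquare D H w) (r : fix D) :
    R D ((r : F) * w, 0) 0 ∈ H ∧ R D (0, (r : F) * w) 0 ∈ H := by
  have hzi : ((z⁻¹ : (fix D)ˣ) : fix D) ≠ 1 := fun e => hz1 (by
    rw [Units.val_inv_eq_inv_val, inv_eq_one] at e; exact e)
  constructor
  · obtain ⟨l, hl⟩ := (hsq (r / ((z : fix D) - 1))).1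
    have h := H.mul_mem (H.mul_mem (H.mul_mem hz hl) (H.inv_mem hz)) (H.inv_mem hl)
    rw [lev_R, mul_inv_cancel_right, app_sd, corr_sd, R_inv, R_mul] at h
    convert h using 2
    · have e : (((z : fix D) - 1 : fix D) : F) * ((r / ((z : fix D) - 1) : fix D) : F) = (r : F) := by
        rw [← Subfield.coe_mul, mul_div_cancel₀ _ (sub_ne_zero.2 hz1)]
      simp only [Subfield.coe_sub, Subfield.coe_one] at e
      ext
      · simp only [Prod.fst_add, Prod.fst_neg]
        linear_combination -w * e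
      · simp
    · exact Subtype.ext (by simp)
  · obtain ⟨l, hl⟩ := (hsq (r / (((z⁻¹ : (fix D)ˣ) : fix D) - 1))).2
    have h := H.mul_mem (H.mul_mem (H.mul_mem hz hl) (H.inv_mem hz)) (H.inv_mem hl)
    rw [lev_R, mul_inv_cancel_right, app_sd, corr_sd, R_inv, R_mul] at h
    convert h using 2
    · have e : ((((z⁻¹ : (fix D)ˣ) : fix D) - 1 : fix D) : F) *
          ((r / (((z⁻¹ : (fix D)ˣ) : fix D) - 1) : fix D) : F) = (r : F) := by
        rw [← Subfield.coe_mul, mul_div_cancel₀ _ (sub_ne_zero.2 hzi)]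
      simp only [Subfield.coe_sub, Subfield.coe_one] at e
      ext
      · simp
      · simp only [Prod.snd_add, Prod.snd_neg]
        linear_combination -w * e
    · exact Subtype.ext (by simp)

theorem no_levU (h2 : (2 : F) = 0) (ha : ¬ Root H va) {w : F} (hw : w ≠ 0)
    (hl : ∀ r : fix D, R D ((r : F) * w, 0) 0 ∈ H ∧ R D (0, (r : F) * w) 0 ∈ H)
    (hu : ∀ c, lev D (su D c) ∈ H) : False := by
  refine ZH_ne_top ha (eq_top_iff.2 fun k _ => ?_)
  have hN : nm D w ≠ 0 := fun e => hw (by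
    have := congrArg (fun k : fix D => (k : F)) e
    simpa using this)
  obtain ⟨c, rfl⟩ : ∃ c, k = c * nm D w := ⟨k / nm D w, (div_mul_cancel₀ _ hN).symm⟩
  have hw1 := (hl 1).2
  rw [Subfield.coe_one, one_mul] at hw1
  have h1 := H.mul_mem (H.mul_mem (hu c) hw1) (H.inv_mem (hu c))
  rw [lev_R, mul_inv_cancel_right, app_su, corr_su] at h1
  have h3 := H.mul_mem (hl c).1 hw1
  rw [R_mul] at h3
  simp only [zero_add, add_zero, Prod.mk_add_mk] at h1 h3
  have h := sub_mem_ZH h1 h3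
  convert h using 1
  exact Subtype.ext (by simp; linear_combination ((c : F) * w * cj D w) * h2)

theorem lift_su (h2 : (2 : F) = 0) (ha : ¬ Root H va) (hM : MH D H = ⊤) {w : F} (hw : w ≠ 0)
    {z : (fix D)ˣ} (hz : lev D (sd D z) ∈ H) (hz1 : (z : fix D) ≠ 1)
    (hl : ∀ r : fix D, R D ((r : F) * w, 0) 0 ∈ H ∧ R D (0, (r : F) * w) 0 ∈ H) (c : fix D) :
    ∃ μ : F, R D (μ, 0) 0 * lev D (su D c) ∈ H := by
  have h2' : (2 : fix D) = 0 := Subtype.ext (by simpa using h2)
  have hz2 : 1 + (z : fix D) * z ≠ 0 := fun e => hz1 <| by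
    have e2 : ((z : fix D) - 1) * ((z : fix D) - 1) = 0 := by linear_combination e - (z : fix D) * h2'
    exact sub_eq_zero.1 (mul_self_eq_zero.1 e2)
  set b := c / (1 + (z : fix D) * z) with hb
  have hcb : b + (z : fix D) * z * b = c := by
    rw [hb, ← one_add_mul, mul_div_cancel₀ _ hz2]
  obtain ⟨x, k, hg⟩ := mem_MH.1 (show su D b ∈ MH D H from hM ▸ trivial)
  have htr : tr D w x.2 = 0 := by
    by_contra hne
    refine ZH_ne_top ha (eq_top_iff.2 fun m _ => ?_)
    have h := H.mul_mem (H.mul_mem hg (hl (-(m / tr D w x.2))).1) (H.inv_mem hg)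
    rw [conj_R, app_su, corr_su] at h
    simp only [mul_zero, add_zero] at h
    have h' := sub_mem_ZH h (hl (-(m / tr D w x.2))).1
    convert h' using 1
    have e : m = m / tr D w x.2 * tr D w x.2 := (div_mul_cancel₀ _ hne).symm
    conv_lhs => rw [e]
    exact Subtype.ext (by simp [om]; ring)
  have hr : cj D (x.2 / w) = x.2 / w := by
    have e := congrArg (fun k : fix D => (k : F)) htr
    simp at e
    rw [map_div₀, div_eq_div_iff ((map_ne_zero _).2 hw) hw]
    linear_combination e - (cj D w * x.2) * h2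
  have h0 := (hl ⟨x.2 / w, hr⟩).2
  rw [show ((⟨x.2 / w, hr⟩ : fix D) : F) * w = x.2 from div_mul_cancel₀ _ hw] at h0
  have hg' := H.mul_mem h0 hg
  rw [← mul_assoc, R_mul] at hg'
  have hx2 : x.2 + x.2 = 0 := by linear_combination x.2 * h2
  have hk : (0 : fix D) + k + tr D ((0 : F), x.2).1 x.2 = k := Subtype.ext (by simp)
  rw [hk, show ((0 : F), x.2) + x = (x.1, 0) from Prod.ext (by simp) (by simpa using hx2)] at hg'
  -- combine with its conjugate by the diagonal element
  have hσ := H.mul_mem hg' (H.mul_mem (H.mul_mem hz hg') (H.inv_mem hz))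
  rw [← mul_assoc (lev D (sd D z)) (R D _ _), lev_R, mul_assoc (R D (app D _ _) _) (lev D _) (lev D _),
    ← map_mul, sd_su, map_mul, ← mul_assoc (R D (app D _ _) _), mul_inv_cancel_right, app_sd, corr_sd,
    mul_assoc (R D (x.1, 0) k), ← mul_assoc (lev D (su D b)), lev_R, app_su, corr_su,
    mul_assoc (R D _ _) (lev D _) (lev D _), ← map_mul, ← su_add, hcb, ← mul_assoc, R_mul] at hσ
  refine ⟨x.1 + ((z : fix D) : F) * x.1, ?_⟩
  convert hσ using 3
  · ext <;> simp
  · exact Subtype.ext (by simp; linear_combination -(k : F) * h2)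

/-- In characteristic two, a diagonal element in `H` reduces to the proper case. -/
theorem full_even (hq : 3 ≤ q) (h2 : (2 : F) = 0) (ha : ¬ Root H va) (hM : MH D H = ⊤) {w : F}
    (hw : w ≠ 0) (hsq : HasSquare D H w) {z : (fix D)ˣ} (hz : lev D (sd D z) ∈ H)
    (hz1 : (z : fix D) ≠ 1) : target q ≤ H.index := by
  have hneg : ∀ x : F, -x = x := fun x => by linear_combination -x * h2
  have hl := lift_line hz hz1 hsq
  choose μ hμ using lift_su h2 ha hM hw hz hz1 hl
  obtain ⟨c0, hc0⟩ : ∃ c0, cj D (μ c0 / w) ≠ μ c0 / w := by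
    by_contra hall
    push Not at hall
    refine no_levU h2 ha hw hl fun c => ?_
    have h := H.mul_mem (hl ⟨μ c / w, hall c⟩).1 (hμ c)
    rw [← mul_assoc, R_mul, show ((⟨μ c / w, hall c⟩ : fix D) : F) * w = μ c from
      div_mul_cancel₀ _ hw] at h
    convert h using 1
    rw [show ((μ c, (0 : F)) + (μ c, 0)) = (0 : F × F) from
      Prod.ext (by show μ c + μ c = 0; linear_combination μ c * h2) (add_zero _)]
    have : (0 : fix D) + 0 + tr D (μ c) 0 = 0 := Subtype.ext (by simp)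
    rw [this, R_zero, one_mul]
  have ha' : ¬ Root (conjH (sw D) H) va := by
    intro hr
    have hr' := root_conjH hr
    have e : act (sw D)⁻¹ va = upt D 0 := by
      rw [inv_eq_of_mul_eq_one_right (sw_mul_sw D), act_sw]
      funext i
      fin_cases i <;> simp [va, upt]
    rw [e] at hr'
    refine no_levU h2 ha hw hl fun c => ?_
    obtain ⟨h, hh, hT⟩ := hr' ⟨-((c : F) / (D.dl * D.dl)), by rw [mem_fix]; simp⟩
    have hT' := isTv_upt c (0 : F) ⟨-((c : F) / (D.dl * D.dl)), by rw [mem_fix]; simp⟩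
      (by have := D.dl_ne; simp; field_simp)
    rw [hT.unique hT'] at hh
    convert hh using 1
    rw [show ((c : F) * 0, (0 : F)) = (0 : F × F) by simp,
      show c * nm D (0 : F) = 0 from Subtype.ext (by simp), R_zero, one_mul]
  have conv' : ∀ (ν : F) (c : fix D), R D (ν, 0) 0 * lev D (su D c) ∈ H →
      (cj D ν, 0) ∈ WH D (conjH (sw D) H) := by
    intro ν c h
    obtain ⟨l', c', -, hc', e⟩ := sw_El ν 0 c
    have h' := conj_mem (g := sw D) h
    rw [e, hneg] at h'
    have hc0' : c' = 0 := Subtype.ext (by rw [hc']; simp)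
    rw [hc0', su_zero, map_one, mul_one] at h'
    exact ⟨_, h'⟩
  rw [← index_conjH (sw D)]
  refine proper_case hq ha' fun htop => ZH_ne_top ha' (eq_top_iff.2 fun m _ => ?_)
  have hA : ∀ r : fix D, (cj D ((r : F) * w), 0) ∈ WH D (conjH (sw D) H) := fun r =>
    conv' _ 0 (by rw [su_zero, map_one, mul_one]; exact (hl r).1)
  have hB := MH_WH (show (weyl : SLtwo (fix D)) ∈ MH D (conjH (sw D) H) from htop ▸ trivial)
    (conv' _ _ (hμ c0))
  rw [app_weyl] at hB
  have hne : tr D (cj D w) (cj D (μ c0)) ≠ 0 := fun e => hc0 (by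
    have e' := congrArg (fun k : fix D => (k : F)) e
    simp at e'
    rw [map_div₀, div_eq_div_iff ((map_ne_zero _).2 hw) hw]
    linear_combination e' - (μ c0 * cj D w) * h2)
  have h := om_mem (hA (-(m / tr D (cj D w) (cj D (μ c0))))) hB
  convert h using 1
  conv_lhs => rw [← div_mul_cancel₀ m hne]
  exact Subtype.ext (by simp [om]; ring)

/-- `M` is everything. -/
theorem full_case (hq : 3 ≤ q) (ha : ¬ Root H va) (hM : MH D H = ⊤) : target q ≤ H.index := by
  by_cases hW : WH D H = ⊥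
  · refine arith_bound (C := 1) (A := q ^ 2 - 1) (B := q * (q ^ 2 - 1)) ?_ ?_ one_pos ?_
    · rw [mul_one]; exact (DZ_cases ha).1
    · rw [hW, AddSubgroup.card_bot, mul_one, hM, Subgroup.card_top, natCard_SL]
    rw [card_Pst']
    calc target q * ((q ^ 2 - 1) * (q * (q ^ 2 - 1)))
        ≤ q ^ 5 * ((q ^ 2 - 1) * (q * (q ^ 2 - 1))) := by
          refine Nat.mul_le_mul_right _ ?_
          unfold target
          calc (q + 1) * (q ^ 3 + 1) = q ^ 4 + q ^ 3 + q + 1 := by ring
            _ ≤ q ^ 4 + q ^ 4 + q ^ 4 := by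
              have h3 : q ^ 3 ≤ q ^ 4 := Nat.pow_le_pow_right (by omega) (by omega)
              have h4 : q ^ 2 ≤ q ^ 4 := Nat.pow_le_pow_right (by omega) (by omega)
              nlinarith
            _ = 3 * q ^ 4 := by ring
            _ ≤ q * q ^ 4 := Nat.mul_le_mul_right _ hq
            _ = _ := by ring
      _ = _ := by ring
  by_cases h2 : (2 : F) = 0
  swap
  · exfalso
    refine hW ((AddSubgroup.eq_bot_iff_forall _).2 fun x hx => ?_)
    have hall : ∀ c, su D c ∈ MH D H := fun c => hM ▸ trivial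
    refine Prod.ext ?_ (WH_line_odd h2 ha hall hx)
    have := WH_line_odd h2 ha hall (MH_WH (show (weyl : SLtwo (fix D)) ∈ MH D H from hM ▸ trivial) hx)
    rw [app_weyl] at this
    exact neg_eq_zero.1 this
  have h2' : (2 : fix D) = 0 := Subtype.ext (by simpa using h2)
  obtain ⟨z, hz1, -⟩ := exists_scalar (D := D) hq
  obtain ⟨w, hw, hsq⟩ := exists_square hM hW
  obtain ⟨x, k, hx⟩ := mem_MH.1 (show sd D z ∈ MH D H from hM ▸ trivial)
  have hzF : (((z : fix D) : F) - 1) ≠ 0 := fun e => hz1 (Subtype.ext (by simpa [sub_eq_zero] using e))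
  have hzi : ((((z⁻¹ : (fix D)ˣ) : fix D) : F) - 1) ≠ 0 := fun e => hz1 (by
    have : ((z⁻¹ : (fix D)ˣ) : fix D) = 1 := Subtype.ext (by simpa [sub_eq_zero] using e)
    rwa [Units.val_inv_eq_inv_val, inv_eq_one] at this)
  set y : F × F := (x.1 / (((z : fix D) : F) - 1),
    x.2 / ((((z⁻¹ : (fix D)ˣ) : fix D) : F) - 1)) with hy
  have hcz : ∃ k', R D 0 k' * lev D (sd D z) ∈ conjH (R D y 0) H := by
    have h := conj_mem (g := R D y 0) hx
    rw [R_inv, ← mul_assoc, mul_assoc (R D y 0 * R D x k), lev_R, ← mul_assoc, R_mul, R_mul] at h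
    rw [show y + x + app D (sd D z) (-y) = 0 by
      have key : ∀ u b : F, b - 1 ≠ 0 → u / (b - 1) + u + b * -(u / (b - 1)) = 0 := fun u b hb => by
        field_simp; ring
      rw [app_sd, hy]
      exact Prod.ext (key _ _ hzF) (key _ _ hzi)] at h
    exact ⟨_, h⟩
  obtain ⟨k', hk'⟩ := hcz
  have hsq' := mul_mem hk' hk'
  rw [mul_assoc, ← mul_assoc (lev D (sd D z)), lev_R, show app D (sd D z) (0 : F × F) = 0 by simp [app_sd],
    corr_sd, mul_assoc, ← map_mul, ← mul_assoc, R_mul,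
    show k' + (k' + 0) + tr D (0 : F × F).1 (0 : F × F).2 = 0 from Subtype.ext (by
      simp; linear_combination (k' : F) * h2), zero_add, R_zero, one_mul,
    show sd D z * sd D z = sd D (z * z) from Subtype.ext (by
      rw [Matrix.SpecialLinearGroup.coe_mul]
      ext i j
      fin_cases i <;> fin_cases j <;> simp [sd, Matrix.mul_apply, Fin.sum_univ_two, mul_comm])] at hsq'
  rw [← index_conjH (R D y 0)]
  refine full_even hq h2 (nonroot_conjH (R_mem _ _) ha) (MH_conjH_R _ _ hM) hw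
    (fun r => ⟨WH_conjH_R _ _ (hsq r).1, WH_conjH_R _ _ (hsq r).2⟩) hsq' fun e => hz1 ?_
  rw [Units.val_mul] at e
  have e2 : ((z : fix D) - 1) * ((z : fix D) - 1) = 0 := by
    linear_combination e - ((z : fix D) - 1) * h2'
  exact sub_eq_zero.1 (mul_self_eq_zero.1 e2)

end Cfsg.Agent.Lib.MinIndexU4
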