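import Cfsg.Agent.Lib.MinIndexU4.Bound
import Cfsg.Agent.S0829

/-!
# Minimal index in `SU₄(q)`: the stabiliser of a totally isotropic line
-/

set_option autoImplicit false
set_option linter.unusedSectionVars false

namespace Cfsg.Agent.Lib.MinIndexU4

open Matrix

variable {F : Type*} [Field F] [Fintype F] {q : ℕ} (D : Dat F q)

/-- The line of `e₀, e₁`. -/
def Lsub : Submodule F (Fin 4 → F) where
  carrier := {v | v 2 = 0 ∧ v 3 = 0}
  add_mem' := fun {v w} hv hw => ⟨by simp [hv.1, hw.1], by simp [hv.2, hw.2]⟩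
  zero_mem' := ⟨rfl, rfl⟩
  smul_mem' := fun c v hv => ⟨by simp [hv.1], by simp [hv.2]⟩

theorem mem_Lsub {v : Fin 4 → F} : v ∈ (Lsub : Submodule F (Fin 4 → F)) ↔ v 2 = 0 ∧ v 3 = 0 :=
  Iff.rfl

theorem Lsub_iso {v w : Fin 4 → F} (hv : v ∈ Lsub) (hw : w ∈ Lsub) : bf D v w = 0 := by
  simp [bf, hv.1, hv.2, hw.1, hw.2]

theorem finrank_Lsub : Module.finrank F (Lsub : Submodule F (Fin 4 → F)) = 2 := by
  let e : (Fin 2 → F) ≃ₗ[F] (Lsub : Submodule F (Fin 4 → F)) :=
    { toFun := fun x => ⟨![x 0, x 1, 0, 0], rfl, rfl⟩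
      invFun := fun v => ![v.1 0, v.1 1]
      map_add' := fun x y => by ext i; fin_cases i <;> simp
      map_smul' := fun c x => by ext i; fin_cases i <;> simp
      left_inv := fun x => by ext i; fin_cases i <;> simp
      right_inv := fun v => by
        obtain ⟨h2, h3⟩ := v.2
        ext i; fin_cases i <;> simp [h2, h3] }
  rw [← e.finrank_eq, Module.finrank_fin_fun]

variable {D}

/-- The linear map of an element. -/
noncomputable def lin (g : GJ D) : (Fin 4 → F) →ₗ[F] (Fin 4 → F) := Matrix.toLin' g.1.1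

theorem lin_apply (g : GJ D) (v : Fin 4 → F) : lin g v = act g v := Matrix.toLin'_apply _ _

theorem lin_mul (g h : GJ D) : lin (g * h) = (lin g).comp (lin h) :=
  LinearMap.ext fun v => by simp [lin_apply, act_mul]

theorem lin_one : lin (1 : GJ D) = LinearMap.id := LinearMap.ext fun v => by simp [lin_apply]

theorem lin_injective (g : GJ D) : Function.Injective (lin g) := fun v w e => by
  rw [lin_apply, lin_apply] at e
  rw [← act_inv_act g v, e, act_inv_act]

variable (D)

/-- The stabiliser of the line. -/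
noncomputable def Lst : Subgroup (GJ D) where
  carrier := {g | (Lsub : Submodule F (Fin 4 → F)).map (lin g) = Lsub}
  one_mem' := by
    show Submodule.map (lin (1 : GJ D)) _ = _
    rw [lin_one, Submodule.map_id]
  mul_mem' {g h} hg hh := by
    show Submodule.map (lin (g * h)) _ = _
    rw [lin_mul, Submodule.map_comp, show Submodule.map (lin h) _ = _ from hh]
    exact hg
  inv_mem' {g} hg := by
    show Submodule.map (lin g⁻¹) _ = _
    conv_lhs => rw [← show Submodule.map (lin g) _ = _ from hg, ← Submodule.map_comp, ← lin_mul,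
      inv_mul_cancel, lin_one, Submodule.map_id]

/-- Totally isotropic planes. -/
def IsPlane (W : Submodule F (Fin 4 → F)) : Prop :=
  Module.finrank F W = 2 ∧ ∀ u ∈ W, ∀ v ∈ W, bf D u v = 0

theorem finrank_map_lin (g : GJ D) (W : Submodule F (Fin 4 → F)) :
    Module.finrank F (W.map (lin g)) = Module.finrank F W :=
  (Submodule.equivMapOfInjective (lin g) (lin_injective g) W).finrank_eq.symm

theorem isPlane_map (g : GJ D) {W : Submodule F (Fin 4 → F)} (hW : IsPlane D W) :
    IsPlane D (W.map (lin g)) := by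
  refine ⟨(finrank_map_lin D g W).trans hW.1, ?_⟩
  rintro _ ⟨u, hu, rfl⟩ _ ⟨v, hv, rfl⟩
  rw [lin_apply, lin_apply, bf_act]
  exact hW.2 u hu v hv

theorem exists_map_plane {W : Submodule F (Fin 4 → F)} (hW : IsPlane D W) :
    ∃ g : GJ D, (Lsub : Submodule F (Fin 4 → F)).map (lin g) = W := by
  obtain ⟨u, hu, hu0⟩ : ∃ u ∈ W, u ≠ 0 := W.exists_mem_ne_zero_of_ne_bot fun e => by
    have := hW.1; rw [e, finrank_bot] at this; omega
  obtain ⟨g, hg⟩ := exists_act_va D ⟨hu0, hW.2 u hu u hu⟩
  set W' := W.map (lin g⁻¹) with hW'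
  have hP : IsPlane D W' := isPlane_map D g⁻¹ hW
  have hva : va ∈ W' := ⟨u, hu, by rw [lin_apply, ← hg, act_inv_act]⟩
  obtain ⟨x, hx, hxa⟩ : ∃ x ∈ W', x ∉ F ∙ (va : Fin 4 → F) := by
    by_contra h
    push Not at h
    have hle := Submodule.finrank_mono (R := F) (show W' ≤ F ∙ va from h)
    rw [hP.1, finrank_span_singleton va_ne] at hle
    omega
  have hx3 : x 3 = 0 := by
    have := hP.2 x hx va hva
    rwa [bf_va] at this
  have hxx : x 1 * cj D (x 2) = x 2 * cj D (x 1) := by
    have := hP.2 x hx x hx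
    simp [bf, hx3, D.dl_ne] at this
    linear_combination this
  suffices ∃ S : SpecialLinearGroup (Fin 2) (fix D), app D S (x 1, x 2) = ((app D S (x 1, x 2)).1, 0) by
    obtain ⟨S, hS⟩ := this
    have hsub : W'.map (lin (lev D S)) = Lsub := by
      have hfix : act (lev D S) va = va := lev_mem S
      have hx' : act (lev D S) x ∈ (Lsub : Submodule F (Fin 4 → F)) := by
        rw [act_lev]
        exact ⟨by simpa [app] using congrArg Prod.snd hS, by simpa using hx3⟩
      have hle : Submodule.span F {va, x} ≤ W' :=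
        Submodule.span_le.2 fun v hv => by rcases hv with rfl | rfl <;> assumption
      have heq : Submodule.span F {va, x} = W' := by
        refine Submodule.eq_of_le_of_finrank_le hle ?_
        rw [hP.1]
        have hlt : (F ∙ (va : Fin 4 → F)) < Submodule.span F {va, x} :=
          lt_of_le_of_ne (Submodule.span_mono (by simp)) fun e =>
            hxa (e ▸ Submodule.subset_span (by simp))
        have := Submodule.finrank_lt_finrank_of_lt hlt
        rw [finrank_span_singleton va_ne] at this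
        omega
      refine Submodule.eq_of_le_of_finrank_eq ?_
        ((finrank_map_lin D _ W').trans (hP.1.trans finrank_Lsub.symm))
      rw [← heq, Submodule.map_span, Submodule.span_le]
      rintro _ ⟨v, hv, rfl⟩
      rw [lin_apply]
      rcases hv with rfl | rfl
      · rw [hfix]; exact ⟨by simp [va], by simp [va]⟩
      · exact hx'
    refine ⟨g * (lev D S)⁻¹, ?_⟩
    rw [← hsub, hW', ← Submodule.map_comp, ← Submodule.map_comp, ← lin_mul, ← lin_mul,
      show g * (lev D S)⁻¹ * lev D S * g⁻¹ = 1 by group, lin_one, Submodule.map_id]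
  by_cases h2 : x 2 = 0
  · exact ⟨1, by simp [app, h2]⟩
  · have hr : cj D (x 1 / x 2) = x 1 / x 2 := by
      rw [map_div₀, div_eq_div_iff ((map_ne_zero _).2 h2) h2]
      linear_combination -hxx
    refine ⟨⟨!![0, 1; -1, ⟨x 1 / x 2, hr⟩], by simp [Matrix.det_fin_two]⟩, ?_⟩
    simp [app, div_mul_cancel₀ _ h2]

theorem index_Lst : (Lst D).index = target q := by
  letI : MulAction (GJ D) (Submodule F (Fin 4 → F)) :=
    { smul := fun g W => W.map (lin g)
      one_smul := fun W => by
        show Submodule.map (lin (1 : GJ D)) W = W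
        rw [lin_one, Submodule.map_id]
      mul_smul := fun g h W => by
        show Submodule.map (lin (g * h)) W = Submodule.map (lin g) (Submodule.map (lin h) W)
        rw [lin_mul, Submodule.map_comp] }
  have hK : Lst D = MulAction.stabilizer (GJ D) (Lsub : Submodule F (Fin 4 → F)) := rfl
  rw [hK, MulAction.index_stabilizer, ← Nat.card_coe_set_eq, target, ← S0829.result D.card]
  have horb : MulAction.orbit (GJ D) (Lsub : Submodule F (Fin 4 → F)) = {W | IsPlane D W} := by
    ext W
    constructor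
    · rintro ⟨g, rfl⟩
      exact isPlane_map D g ⟨finrank_Lsub, fun u hu v hv => Lsub_iso D hu hv⟩
    · intro hW
      obtain ⟨g, hg⟩ := exists_map_plane D hW
      exact ⟨g, hg⟩
  rw [horb]
  refine Nat.card_congr ((Submodule.orderIsoMapComap (P D)).toEquiv.subtypeEquiv fun W => ?_)
  show IsPlane D W ↔ _
  constructor
  · intro hW
    refine ⟨((P D).submoduleMap W).finrank_eq.symm.trans hW.1, ?_⟩
    rintro _ ⟨u, hu, rfl⟩ _ ⟨v, hv, rfl⟩
    rw [show Cfsg.hermForm 4 F q ((P D).toLinearMap u) ((P D).toLinearMap v) = bf D u v from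
      herm_P D u v]
    exact hW.2 u hu v hv
  · intro hW
    refine ⟨((P D).submoduleMap W).finrank_eq.trans hW.1, fun u hu v hv => ?_⟩
    rw [← herm_P]
    exact hW.2 _ ⟨u, hu, rfl⟩ _ ⟨v, hv, rfl⟩

include D in
theorem target_le_points : target q ≤ (q ^ 2 + 1) * (q ^ 3 + 1) := by
  refine Nat.mul_le_mul_right _ ?_
  nlinarith [two_le D]

theorem index_ge_of_fix {H : Subgroup (GJ D)} {u : Fin 4 → F} (hu : IsIso D u)
    (h : ∀ g ∈ H, ∃ s : F, act g u = s • u) : target q ≤ H.index := by
  obtain ⟨x, hx⟩ := exists_act_va D hu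
  have hle : conjH x⁻¹ H ≤ Pst D := by
    intro y hy
    obtain ⟨s, hs⟩ := h _ (mem_conjH.1 hy)
    rw [inv_inv, act_mul, act_mul, ← hx, act_inv_act] at hs
    have hs' : act y va = s • va := by
      have := congrArg (act x⁻¹) hs
      rwa [act_smul, act_inv_act, act_inv_act] at this
    have hs0 : s ≠ 0 := fun e => va_ne (F := F) (by
      rw [← act_inv_act y va, hs', e, zero_smul]; simp [act])
    exact ⟨Units.mk0 s hs0, hs'⟩
  rw [← index_conjH x⁻¹]
  refine (target_le_points D).trans ?_
  rw [← index_Pst D]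
  exact Nat.le_of_dvd (Nat.pos_of_ne_zero Subgroup.index_ne_zero_of_finite)
    (Subgroup.index_dvd_of_le hle)

theorem index_ge_of_line {H : Subgroup (GJ D)}
    (h : ∀ g ∈ H, ∀ v ∈ (Lsub : Submodule F (Fin 4 → F)), act g v ∈ Lsub) : target q ≤ H.index := by
  rw [← index_Lst D]
  refine Nat.le_of_dvd (Nat.pos_of_ne_zero Subgroup.index_ne_zero_of_finite)
    (Subgroup.index_dvd_of_le fun g hg => ?_)
  refine Submodule.eq_of_le_of_finrank_eq ?_ (finrank_map_lin D g _)
  rintro _ ⟨v, hv, rfl⟩
  rw [lin_apply]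
  exact h g hg v hv

end Cfsg.Agent.Lib.MinIndexU4
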