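import Cfsg.Agent.Lib.MinIndexU4.Model

/-!
# Minimal index in `SU₄(q)`: the stabiliser of the point `a`, the data `W`, `Z`, `M`, `D` of a
subgroup at this point, transvections
-/

set_option autoImplicit false
set_option linter.unusedSectionVars false

namespace Cfsg.Agent.Lib.MinIndexU4

open Matrix

variable {F : Type*} [Field F] [Fintype F] {q : ℕ} (D : Dat F q)

theorem va_ne : (va : Fin 4 → F) ≠ 0 := fun h => one_ne_zero (congrFun h 0)

theorem act_va (g : GJ D) (i : Fin 4) : act g va i = g.1.1 i 0 := by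
  simp [act, va, mulVec, dotProduct, Fin.sum_univ_four]

theorem bf_va (v : Fin 4 → F) : bf D v va = v 3 := by simp [bf, va]

/-- The stabiliser of the point of `a`. -/
def Pst : Subgroup (GJ D) where
  carrier := {g | ∃ t : Fˣ, act g va = (t : F) • va}
  one_mem' := ⟨1, by simp⟩
  mul_mem' := by
    rintro g h ⟨t, ht⟩ ⟨s, hs⟩
    exact ⟨s * t, by rw [act_mul, hs, act_smul, ht, smul_smul, Units.val_mul]⟩
  inv_mem' := by
    rintro g ⟨t, ht⟩
    refine ⟨t⁻¹, ?_⟩
    conv_rhs => rw [← act_inv_act g va, ht, act_smul, smul_smul, ← Units.val_mul, inv_mul_cancel,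
      Units.val_one, one_smul]

/-- The stabiliser of `a`. -/
def Fa : Subgroup (GJ D) where
  carrier := {g | act g va = va}
  one_mem' := act_one _
  mul_mem' {g h} hg hh := by
    show act (g * h) va = va
    rw [act_mul, show act h va = va from hh]; exact hg
  inv_mem' {g} hg := by
    show act g⁻¹ va = va
    conv_lhs => rw [← show act g va = va from hg]
    exact act_inv_act g va

theorem Fa_le : Fa D ≤ Pst D := fun _ hg => ⟨1, by rw [Units.val_one, one_smul]; exact hg⟩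

theorem ptScalar_eq (g : Pst D) {t : F} (ht : act g.1 va = t • va) : g.1.1.1 0 0 = t := by
  rw [← act_va, ht]; simp [va]

/-- The scalar on `a`. -/
noncomputable def tHom : Pst D →* Fˣ where
  toFun g := Units.mk0 (g.1.1.1 0 0) (by
    obtain ⟨t, ht⟩ := g.2
    rw [ptScalar_eq D g ht]; exact t.ne_zero)
  map_one' := Units.ext (by simp)
  map_mul' g h := Units.ext (by
    obtain ⟨t, ht⟩ := g.2
    obtain ⟨s, hs⟩ := h.2
    show (g * h : Pst D).1.1.1 0 0 = g.1.1.1 0 0 * h.1.1.1 0 0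
    rw [ptScalar_eq D g ht, ptScalar_eq D h hs]
    refine ptScalar_eq D (g * h) ?_
    show act (g.1 * h.1) va = _
    rw [act_mul, hs, act_smul, ht, smul_smul, mul_comm])

theorem act_tHom (g : Pst D) : act g.1 va = (tHom D g : F) • va := by
  obtain ⟨t, ht⟩ := g.2
  show act g.1 va = g.1.1.1 0 0 • va
  rw [ptScalar_eq D g ht]; exact ht

theorem mem_Fa_iff (g : Pst D) : g.1 ∈ Fa D ↔ tHom D g = 1 := by
  constructor
  · intro h
    refine Units.ext ?_
    show g.1.1.1 0 0 = 1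
    exact ptScalar_eq D g (by rw [one_smul]; exact h)
  · intro h
    show act g.1 va = va
    rw [act_tHom, h, Units.val_one, one_smul]

/-- The element scaling `a` by `t`. -/
noncomputable def tor (t : Fˣ) : GJ D :=
  mk D (Matrix.diagonal ![(t : F), (t : F)⁻¹, cj D t, (cj D t)⁻¹])
    (by
      have ht : (t : F) ≠ 0 := t.ne_zero
      rw [det_diagonal, Fin.prod_univ_four]
      simp [ht])
    (fun v w => by
      simp [bf, mulVec_diagonal]
      field_simp)

theorem tor_mem (t : Fˣ) : tor D t ∈ Pst D := ⟨t, by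
  funext i
  rw [tor, act_mk, mulVec_diagonal]
  fin_cases i <;> simp [va]⟩

theorem tHom_surjective : Function.Surjective (tHom D) := fun t =>
  ⟨⟨tor D t, tor_mem D t⟩, Units.ext (by show (Matrix.diagonal _) 0 0 = _; simp)⟩

variable {D}

theorem fix_col {g : GJ D} (hg : g ∈ Fa D) (i : Fin 4) : g.1.1 i 0 = (va : Fin 4 → F) i := by
  rw [← act_va, show act g va = va from hg]

theorem act_three {g : GJ D} (hg : g ∈ Fa D) (v : Fin 4 → F) : act g v 3 = v 3 := by
  rw [← bf_va D (act g v)]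
  conv_lhs => rw [← show act g va = va from hg]
  rw [bf_act, bf_va]

theorem fix_row {g : GJ D} (hg : g ∈ Fa D) (j : Fin 4) :
    g.1.1 3 j = if j = 3 then 1 else 0 := by
  have h := act_three hg (Pi.single j 1)
  rw [act, mulVec_single] at h
  simp only [Pi.smul_apply, MulOpposite.smul_eq_mul_unop, MulOpposite.unop_op, mul_one,
    Matrix.col_apply] at h
  rw [h, Pi.single_apply]
  simp [eq_comm]

theorem act_fix {g : GJ D} (hg : g ∈ Fa D) (v : Fin 4 → F) :
    act g v = ![v 0 + g.1.1 0 1 * v 1 + g.1.1 0 2 * v 2 + g.1.1 0 3 * v 3,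
      g.1.1 1 1 * v 1 + g.1.1 1 2 * v 2 + g.1.1 1 3 * v 3,
      g.1.1 2 1 * v 1 + g.1.1 2 2 * v 2 + g.1.1 2 3 * v 3, v 3] := by
  funext i
  have h0 := fix_col hg i
  have hr := fix_row hg
  fin_cases i <;> simp [va] at h0 <;>
    simp [act, mulVec, dotProduct, Fin.sum_univ_four, h0, hr]

theorem fix_det {g : GJ D} (hg : g ∈ Fa D) :
    g.1.1 1 1 * g.1.1 2 2 - g.1.1 1 2 * g.1.1 2 1 = 1 := by
  have h := g.1.2
  rw [Matrix.det_succ_column_zero, Fin.sum_univ_four] at h
  have hc := fix_col hg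
  have hr := fix_row hg
  simp [hc, va, Matrix.det_fin_three, hr] at h
  linear_combination h

theorem fix_entries {g : GJ D} (hg : g ∈ Fa D) :
    g.1.1 1 1 ∈ fix D ∧ g.1.1 1 2 ∈ fix D ∧ g.1.1 2 1 ∈ fix D ∧ g.1.1 2 2 ∈ fix D := by
  have hd := fix_det hg
  have h11 := bf_act g ![0, 1, 0, 0] ![0, 1, 0, 0]
  have h12 := bf_act g ![0, 1, 0, 0] ![0, 0, 1, 0]
  have h21 := bf_act g ![0, 0, 1, 0] ![0, 1, 0, 0]
  have h22 := bf_act g ![0, 0, 1, 0] ![0, 0, 1, 0]
  simp [act_fix hg, bf, D.dl_ne] at h11 h12 h21 h22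
  replace h21 : g.1.1 1 2 * cj D (g.1.1 2 1) - g.1.1 2 2 * cj D (g.1.1 1 1) = -1 :=
    mul_left_cancel₀ D.dl_ne (by linear_combination h21)
  simp only [mem_fix]
  refine ⟨?_, ?_, ?_, ?_⟩
  · linear_combination g.1.1 1 2 * h11 - g.1.1 1 1 * h21 - cj D (g.1.1 1 1) * hd
  · linear_combination g.1.1 1 2 * h12 - g.1.1 1 1 * h22 - cj D (g.1.1 1 2) * hd
  · linear_combination g.1.1 2 2 * h11 - g.1.1 2 1 * h21 - cj D (g.1.1 2 1) * hd
  · linear_combination g.1.1 2 2 * h12 - g.1.1 2 1 * h22 - cj D (g.1.1 2 2) * hd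

/-- The block on `⟨e₁, e₂⟩` of an element fixing `a`. -/
noncomputable def blkFun (g : Fa D) : SpecialLinearGroup (Fin 2) (fix D) :=
  ⟨!![⟨g.1.1.1 1 1, (fix_entries g.2).1⟩, ⟨g.1.1.1 1 2, (fix_entries g.2).2.1⟩;
      ⟨g.1.1.1 2 1, (fix_entries g.2).2.2.1⟩, ⟨g.1.1.1 2 2, (fix_entries g.2).2.2.2⟩],
    by rw [Matrix.det_fin_two_of]; exact Subtype.ext (by simpa using fix_det g.2)⟩

/-- The homomorphism to the isometries of `⟨e₁, e₂⟩`. -/
noncomputable def blk : Fa D →* SpecialLinearGroup (Fin 2) (fix D) where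
  toFun := blkFun
  map_one' := by
    refine Subtype.ext ?_
    ext i j
    fin_cases i <;> fin_cases j <;> simp [blkFun]
  map_mul' g h := by
    refine Subtype.ext ?_
    rw [Matrix.SpecialLinearGroup.coe_mul]
    have hc := fix_col g.2
    have hr := fix_row h.2
    ext i j
    fin_cases i <;> fin_cases j <;>
      simp [blkFun, Matrix.mul_apply, Fin.sum_univ_two, Fin.sum_univ_four, hc, hr, va]

theorem blk_apply (g : Fa D) : blk g = blkFun g := rfl

theorem lev_mem (S : SpecialLinearGroup (Fin 2) (fix D)) : lev D S ∈ Fa D := by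
  show act (lev D S) va = va
  rw [act_lev]
  funext i
  fin_cases i <;> simp [va]

theorem R_mem (x : F × F) (k : fix D) : R D x k ∈ Fa D := by
  show act (R D x k) va = va
  rw [act_R]
  funext i
  fin_cases i <;> simp [va]

theorem blk_lev (S : SpecialLinearGroup (Fin 2) (fix D)) : blk ⟨lev D S, lev_mem S⟩ = S := by
  refine Subtype.ext ?_
  ext i j
  fin_cases i <;> fin_cases j <;> simp [blk_apply, blkFun, lev, mk, sMat]

theorem blk_R (x : F × F) (k : fix D) : blk ⟨R D x k, R_mem x k⟩ = 1 := by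
  refine Subtype.ext ?_
  ext i j
  fin_cases i <;> fin_cases j <;> simp [blk_apply, blkFun, R, mk, rMat]

theorem blk_surjective : Function.Surjective (blk (D := D)) := fun S => ⟨_, blk_lev S⟩

theorem exists_R_of_blk {g : Fa D} (hg : blk g = 1) : ∃ x k, g.1 = R D x k := by
  have e := fun i j => congrArg (fun S : SpecialLinearGroup (Fin 2) (fix D) => (S.1 i j : F)) hg
  have e00 := e 0 0
  have e01 := e 0 1
  have e10 := e 1 0
  have e11 := e 1 1
  simp [blk_apply, blkFun] at e00 e01 e10 e11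
  have h13 := bf_act g.1 ![0, 1, 0, 0] ![0, 0, 0, 1]
  have h23 := bf_act g.1 ![0, 0, 1, 0] ![0, 0, 0, 1]
  have h33 := bf_act g.1 ![0, 0, 0, 1] ![0, 0, 0, 1]
  simp [act_fix g.2, bf, e00, e01, e10, e11] at h13 h23 h33
  refine ⟨(g.1.1.1 1 3, g.1.1.1 2 3),
    ⟨g.1.1.1 0 3 / D.dl + g.1.1.1 1 3 * cj D (g.1.1.1 2 3), ?_⟩, ext_act fun v => ?_⟩
  · rw [mem_fix]
    have := D.dl_ne
    simp
    field_simp
    linear_combination -h33
  · rw [act_fix g.2, act_R, e00, e01, e10, e11]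
    funext i
    have := D.dl_ne
    fin_cases i <;> simp
    field_simp
    linear_combination (v 1) * h13 + (v 2) * h23

theorem exists_decomp (g : Fa D) : ∃ x k, g.1 = R D x k * lev D (blk g) := by
  obtain ⟨x, k, h⟩ := exists_R_of_blk (g := g * ⟨lev D (blk g), lev_mem _⟩⁻¹)
    (by rw [map_mul, map_inv, blk_lev, mul_inv_cancel])
  exact ⟨x, k, by rw [← h]; simp⟩

variable (D)

/-- The unipotent radical. -/
noncomputable def Rad : Subgroup (GJ D) where
  carrier := {g | ∃ x k, g = R D x k}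
  one_mem' := ⟨0, 0, (R_zero D).symm⟩
  mul_mem' := by rintro g h ⟨x, k, rfl⟩ ⟨y, l, rfl⟩; exact ⟨_, _, R_mul D x y k l⟩
  inv_mem' := by rintro g ⟨x, k, rfl⟩; exact ⟨_, _, R_inv D x k⟩

theorem Rad_le : Rad D ≤ Fa D := by rintro g ⟨x, k, rfl⟩; exact R_mem x k

theorem blk_ker : (blk (D := D)).ker = (Rad D).subgroupOf (Fa D) := by
  ext g
  rw [MonoidHom.mem_ker, Subgroup.mem_subgroupOf]
  constructor
  · intro h; exact exists_R_of_blk h
  · rintro ⟨x, k, h⟩
    rw [show g = ⟨R D x k, R_mem x k⟩ from Subtype.ext h, blk_R]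

theorem tHom_ker : (tHom D).ker = (Fa D).subgroupOf (Pst D) := by
  ext g
  rw [MonoidHom.mem_ker, Subgroup.mem_subgroupOf, mem_Fa_iff]

variable (H : Subgroup (GJ D))

/-- The projection of `H ∩ Rad`. -/
noncomputable def WH : AddSubgroup (F × F) where
  carrier := {x | ∃ k, R D x k ∈ H}
  zero_mem' := ⟨0, by rw [R_zero]; exact H.one_mem⟩
  add_mem' := by rintro x y ⟨k, hk⟩ ⟨l, hl⟩; exact ⟨_, by rw [← R_mul]; exact H.mul_mem hk hl⟩
  neg_mem' := by rintro x ⟨k, hk⟩; exact ⟨_, by rw [← R_inv]; exact H.inv_mem hk⟩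

/-- The central part of `H ∩ Rad`. -/
noncomputable def ZH : AddSubgroup (fix D) where
  carrier := {k | R D 0 k ∈ H}
  zero_mem' := by show R D 0 0 ∈ H; rw [R_zero]; exact H.one_mem
  add_mem' {k l} hk hl := by
    have h := H.mul_mem hk hl
    rw [R_mul] at h
    show R D 0 (k + l) ∈ H
    convert h using 2
    · simp
    · exact Subtype.ext (by simp)
  neg_mem' {k} hk := by
    have h := H.inv_mem hk
    rw [R_inv] at h
    show R D 0 (-k) ∈ H
    convert h using 2
    · simp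
    · exact Subtype.ext (by simp)

/-- The image of `H` in the isometries of `⟨e₁, e₂⟩`. -/
noncomputable def MH : Subgroup (SpecialLinearGroup (Fin 2) (fix D)) :=
  (H.subgroupOf (Fa D)).map blk

/-- The scalars of `H` on `a`. -/
noncomputable def DH : Subgroup Fˣ := (H.subgroupOf (Pst D)).map (tHom D)

variable {D H}

theorem mem_MH {S : SpecialLinearGroup (Fin 2) (fix D)} :
    S ∈ MH D H ↔ ∃ x k, R D x k * lev D S ∈ H := by
  constructor
  · rintro ⟨g, hg, rfl⟩
    obtain ⟨x, k, h⟩ := exists_decomp g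
    exact ⟨x, k, h ▸ hg⟩
  · rintro ⟨x, k, h⟩
    refine ⟨⟨R D x k, R_mem x k⟩ * ⟨lev D S, lev_mem S⟩, h, ?_⟩
    rw [map_mul, blk_R, blk_lev, one_mul]

theorem card_map_mul {A B : Type*} [Group A] [Group B] (S : Subgroup A) (f : A →* B) :
    Nat.card S = Nat.card (S.map f) * Nat.card (f.ker ⊓ S : Subgroup A) := by
  have h := (f.comp S.subtype).ker.index_mul_card
  rw [Subgroup.index_ker, MonoidHom.range_comp, Subgroup.range_subtype,
    show (f.comp S.subtype).ker = f.ker.subgroupOf S from rfl] at h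
  rw [← h, Nat.card_congr (Subgroup.subgroupOfEquivOfLe
    (inf_le_right : f.ker ⊓ S ≤ S)).toEquiv.symm, Subgroup.inf_subgroupOf_right]

variable (H)

theorem card_inf_Rad : Nat.card (H ⊓ Rad D : Subgroup (GJ D)) =
    Nat.card (WH D H) * Nat.card (ZH D H) := by
  rw [← Nat.card_prod]
  refine (Nat.card_congr (Equiv.ofBijective (fun p : WH D H × ZH D H =>
    (⟨R D p.1.1 p.1.2.choose * R D 0 p.2.1, H.mul_mem p.1.2.choose_spec p.2.2,
      (Rad D).mul_mem ⟨_, _, rfl⟩ ⟨_, _, rfl⟩⟩ : (H ⊓ Rad D : Subgroup (GJ D)))) ⟨?_, ?_⟩)).symm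
  · rintro ⟨⟨x, hx⟩, z⟩ ⟨⟨y, hy⟩, z'⟩ e
    have e' := congrArg Subtype.val e
    simp only [R_mul, add_zero] at e'
    obtain ⟨rfl, e2⟩ := R_inj D e'
    refine Prod.ext rfl (Subtype.ext ?_)
    linear_combination e2
  · rintro ⟨g, hg, x, k, rfl⟩
    have hx : x ∈ WH D H := ⟨k, hg⟩
    have h := H.mul_mem (H.inv_mem (show R D x hx.choose ∈ H from hx.choose_spec)) hg
    rw [R_inv, R_mul, neg_add_cancel] at h
    refine ⟨(⟨x, hx⟩, ⟨_, h⟩), Subtype.ext ?_⟩
    show R D x hx.choose * R D 0 _ = R D x k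
    rw [R_mul, add_zero]
    congr 1
    exact Subtype.ext (by simp; ring)

theorem card_inf_Fa : Nat.card (H ⊓ Fa D : Subgroup (GJ D)) =
    Nat.card (MH D H) * (Nat.card (WH D H) * Nat.card (ZH D H)) := by
  have h := card_map_mul (H.subgroupOf (Fa D)) (blk (D := D))
  rw [blk_ker] at h
  rw [← card_inf_Rad]
  rw [Nat.card_congr (Subgroup.subgroupOfEquivOfLe (inf_le_right : H ⊓ Fa D ≤ Fa D)).toEquiv.symm,
    Subgroup.inf_subgroupOf_right, h]
  congr 1
  rw [← Nat.card_congr (Subgroup.subgroupOfEquivOfLe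
    ((inf_le_right : H ⊓ Rad D ≤ Rad D).trans (Rad_le D))).toEquiv]
  rw [show (Rad D).subgroupOf (Fa D) ⊓ H.subgroupOf (Fa D) = (H ⊓ Rad D).subgroupOf (Fa D) by
    ext g; simp [Subgroup.mem_subgroupOf, and_comm]]

theorem card_inf_Pst : Nat.card (H ⊓ Pst D : Subgroup (GJ D)) =
    Nat.card (DH D H) * Nat.card (H ⊓ Fa D : Subgroup (GJ D)) := by
  have h := card_map_mul (H.subgroupOf (Pst D)) (tHom D)
  rw [tHom_ker] at h
  rw [Nat.card_congr (Subgroup.subgroupOfEquivOfLe (inf_le_right : H ⊓ Pst D ≤ Pst D)).toEquiv.symm,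
    Subgroup.inf_subgroupOf_right, h]
  congr 1
  rw [← Nat.card_congr (Subgroup.subgroupOfEquivOfLe
    ((inf_le_right : H ⊓ Fa D ≤ Fa D).trans (Fa_le D))).toEquiv]
  congr 2
  ext g
  simp [Subgroup.mem_subgroupOf, and_comm]

variable (D)

theorem WH_top : WH D ⊤ = ⊤ := eq_top_iff.2 fun _ _ => ⟨0, trivial⟩

theorem ZH_top : ZH D ⊤ = ⊤ := eq_top_iff.2 fun _ _ => trivial

theorem card_Fa : Nat.card (Fa D) =
    Nat.card (SpecialLinearGroup (Fin 2) (fix D)) * (Nat.card F ^ 2 * Nat.card (fix D)) := by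
  have h := card_inf_Fa (D := D) ⊤
  rw [top_inf_eq, WH_top, ZH_top, AddSubgroup.card_top, AddSubgroup.card_top, Nat.card_prod] at h
  rw [h, sq, MH, Subgroup.top_subgroupOf, Subgroup.map_top_of_surjective _ blk_surjective,
    Subgroup.card_top]

theorem card_Pst : Nat.card (Pst D) = Nat.card Fˣ * Nat.card (Fa D) := by
  have h := card_inf_Pst (D := D) ⊤
  rw [top_inf_eq, top_inf_eq, DH, Subgroup.top_subgroupOf,
    Subgroup.map_top_of_surjective _ (tHom_surjective D), Subgroup.card_top] at h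
  exact h

variable {D}

/-- `g` is the transvection with centre `u` and parameter `k`. -/
def IsTv (g : GJ D) (u : Fin 4 → F) (k : fix D) : Prop :=
  ∀ v, act g v = v + (D.dl * (k : F) * bf D v u) • u

theorem IsTv.unique {g h : GJ D} {u : Fin 4 → F} {k : fix D} (hg : IsTv g u k) (hh : IsTv h u k) :
    g = h := ext_act fun v => (hg v).trans (hh v).symm

theorem IsTv.conj {g : GJ D} {u : Fin 4 → F} {k : fix D} (hg : IsTv g u k) (x : GJ D) :
    IsTv (x * g * x⁻¹) (act x u) k := fun v => by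
  rw [act_mul, act_mul, hg, act_add, act_smul, act_act_inv]
  congr 2
  rw [← bf_act x (act x⁻¹ v) u, act_act_inv]

theorem bf_smul_right (c : F) (v w : Fin 4 → F) : bf D v (c • w) = cj D c * bf D v w := by
  simp [bf]; ring

theorem isTv_smul {g : GJ D} {u : Fin 4 → F} {k : fix D} {s : F} :
    IsTv g (s • u) k ↔ IsTv g u (nm D s * k) := by
  refine forall_congr' fun v => ?_
  rw [bf_smul_right, smul_smul]
  simp only [Subfield.coe_mul, coe_nm]
  constructor <;> intro h <;> rw [h] <;> congr 2 <;> ring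

theorem isTv_R (k : fix D) : IsTv (R D 0 k) va k := fun v => by
  rw [act_R, bf_va]
  funext i
  fin_cases i <;> simp [va]

/-- The transvection group at `u` lies in `H`. -/
def Root (H : Subgroup (GJ D)) (u : Fin 4 → F) : Prop := ∀ k : fix D, ∃ h ∈ H, IsTv h u k

theorem Root.map {H : Subgroup (GJ D)} {u : Fin 4 → F} (hr : Root H u) {g : GJ D} (hg : g ∈ H) :
    Root H (act g u) := fun k => by
  obtain ⟨h, hh, hT⟩ := hr k
  exact ⟨_, H.mul_mem (H.mul_mem hg hh) (H.inv_mem hg), hT.conj g⟩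

theorem Root.smul {H : Subgroup (GJ D)} {u : Fin 4 → F} (hr : Root H u) (s : F) :
    Root H (s • u) := fun k => by
  obtain ⟨h, hh, hT⟩ := hr (nm D s * k)
  exact ⟨h, hh, isTv_smul.2 hT⟩

theorem root_va_iff {H : Subgroup (GJ D)} : Root H va ↔ ZH D H = ⊤ := by
  constructor
  · intro h
    refine eq_top_iff.2 fun k _ => ?_
    obtain ⟨g, hg, hT⟩ := h k
    show R D 0 k ∈ H
    rwa [(isTv_R k).unique hT]
  · intro h k
    exact ⟨_, show k ∈ ZH D H by rw [h]; trivial, isTv_R k⟩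

theorem DH_stab {H : Subgroup (GJ D)} {t : Fˣ} (ht : t ∈ DH D H) {k : fix D} (hk : k ∈ ZH D H) :
    nm D t * k ∈ ZH D H := by
  obtain ⟨g, hg, rfl⟩ := ht
  have h := (isTv_R k).conj g.1
  rw [act_tHom, isTv_smul] at h
  show R D 0 _ ∈ H
  rw [(isTv_R _).unique h]
  exact H.mul_mem (H.mul_mem hg hk) (H.inv_mem hg)

end Cfsg.Agent.Lib.MinIndexU4
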