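import Cfsg.Agent.Lib.MinIndexU4.Full
import Cfsg.Agent.Lib.MinIndexSp.Main
import Cfsg.Agent.Lib.Classical.UnitaryCentre
import Cfsg.Agent.S0822

/-!
# Minimal index in `SU₄(q)` and `PSU₄(q)`
-/

set_option autoImplicit false
set_option linter.unusedSectionVars false

namespace Cfsg.Agent.Lib.MinIndexU4

open Matrix

variable {F : Type*} [Field F] [Fintype F] {q : ℕ}

/-- The bound in the model. -/
theorem min_index {D : Dat F q} (hq : 3 ≤ q) {H : Subgroup (GJ D)} (hH : H ≠ ⊤) :
    target q ≤ H.index := by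
  obtain ⟨u, hu, hr⟩ : ∃ u, IsIso D u ∧ ¬ Root H u := by
    by_contra h
    push Not at h
    exact hH (eq_top_of_roots D h)
  obtain ⟨g, hg⟩ := exists_act_va D hu
  have ha : ¬ Root (conjH g⁻¹ H) va := fun h => hr (by
    have := root_conjH h
    rwa [inv_inv, hg] at this)
  rw [← index_conjH g⁻¹]
  by_cases hM : MH D (conjH g⁻¹ H) = ⊤
  · exact full_case hq ha hM
  · exact proper_case hq ha hM

theorem center_le_Lst (D : Dat F q) {z : GJ D} (hz : z ∈ Subgroup.center (GJ D)) : z ∈ Lst D := by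
  have hc : toSU D z ∈ Subgroup.center (Cfsg.SU 4 F q) := Subgroup.mem_center_iff.2 fun s => by
    obtain ⟨g, rfl⟩ := (toSU D).surjective s
    rw [← map_mul, ← map_mul, Subgroup.mem_center_iff.1 hz g]
  have hs := Classical.center_SU_scalar D.card _ hc 0
  obtain ⟨a, ha⟩ : ∃ a : F, ∀ v, act z v = a • v := ⟨(toSU D z).1.1 0 0, fun v => by
    refine (P D).injective ?_
    rw [← act_toSU, map_smul, PSUAut.act, Classical.suLinear_apply, hs]
    funext i
    simp [mulVec_diagonal]⟩
  refine Submodule.eq_of_le_of_finrank_eq ?_ (finrank_map_lin D z _)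
  rintro _ ⟨v, hv, rfl⟩
  rw [lin_apply, ha]
  exact Submodule.smul_mem _ _ hv

theorem exists_cover (hF : Fintype.card F = q ^ 2) : ∃ (D : Dat F q) (f : GJ D →* Cfsg.PSU 4 F q),
    Function.Surjective f ∧ f.ker = Subgroup.center (GJ D) := by
  obtain ⟨D⟩ := exists_dat hF
  refine ⟨D, (QuotientGroup.mk' (Subgroup.center (Cfsg.SU 4 F q))).comp (toSU D).toMonoidHom,
    (QuotientGroup.mk'_surjective _).comp (toSU D).surjective, ?_⟩
  ext z
  simp only [MonoidHom.mem_ker, MonoidHom.comp_apply, MulEquiv.coe_toMonoidHom,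
    QuotientGroup.mk'_apply, QuotientGroup.eq_one_iff, Subgroup.mem_center_iff]
  constructor
  · intro h g; exact (toSU D).injective (by rw [map_mul, map_mul, h])
  · intro h g
    obtain ⟨g', rfl⟩ := (toSU D).surjective g
    rw [← map_mul, ← map_mul, h]

theorem psu_four_attained (hF : Fintype.card F = q ^ 2) :
    ∃ H : Subgroup (Cfsg.PSU 4 F q), H.index = target q := by
  obtain ⟨D, f, hf, hk⟩ := exists_cover hF
  exact ⟨(Lst D).map f, by
    rw [Subgroup.index_map_eq _ hf (hk ▸ fun z hz => center_le_Lst D hz), index_Lst]⟩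

/-- The bound for `PSp₄(3)`. -/
theorem psp_four_three {K : Type*} [Field K] [Fintype K] (hK : Fintype.card K = 3)
    (H : Subgroup (Cfsg.PSp 2 K)) (hH : H ≠ ⊤) : 27 ≤ H.index := by
  let π := QuotientGroup.mk' (Subgroup.center (Matrix.symplecticGroup (Fin 2) K))
  have hπ : Function.Surjective π := QuotientGroup.mk'_surjective _
  let H' : Subgroup (MinIndexSp.Iso (Forms.sympBilin 2 K)) :=
    (H.comap π).comap (MinIndexSp.spEquiv 2 K).symm.toMonoidHom
  have hi : H'.index = H.index := by
    rw [Subgroup.index_comap_of_surjective _ (MinIndexSp.spEquiv 2 K).symm.surjective,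
      Subgroup.index_comap_of_surjective _ hπ]
  have hne : H' ≠ ⊤ := fun e => hH (Subgroup.index_eq_one.1 (by rw [← hi, e, Subgroup.index_top]))
  have hc : Nat.card K = 3 := by rw [Nat.card_eq_fintype_card, hK]
  have hV : Nat.card (Fin 2 ⊕ Fin 2 → K) = 81 := by
    rw [MinIndexSp.card_sympSpace, hc]; norm_num
  have h := (MinIndexSp.min_index (F := K) (by omega) _
    (MinIndexSp.sympBilin_good (m := 2) (F := K)) le_rfl (by rw [hV, hc]; norm_num) H' hne).1
  rw [hV, hc, hi] at h
  omega

theorem psu_four_min_index (hF : Fintype.card F = q ^ 2) (hq : 2 ≤ q) :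
    (∀ H : Subgroup (Cfsg.PSU 4 F q), H ≠ ⊤ → (q + 1) * (q ^ 3 + 1) ≤ H.index) ∧
      ∃ H : Subgroup (Cfsg.PSU 4 F q), H.index = (q + 1) * (q ^ 3 + 1) := by
  refine ⟨fun H hne => ?_, psu_four_attained hF⟩
  rcases Nat.lt_or_ge 2 q with h3 | h2
  · obtain ⟨D, f, hf, -⟩ := exists_cover hF
    rw [← Subgroup.index_comap_of_surjective H hf]
    refine min_index h3 fun h => hne ?_
    rw [← Subgroup.map_comap_eq_self_of_surjective hf H, h, Subgroup.map_top_of_surjective f hf]
  · have hq2 : q = 2 := by omega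
    subst hq2
    haveI : Fact (Nat.Prime 3) := ⟨Nat.prime_three⟩
    obtain ⟨e⟩ := S0822.result (K := ZMod 3) (by rw [hF]; norm_num) (ZMod.card 3)
    have hne' : H.comap e.symm.toMonoidHom ≠ ⊤ := fun h => hne (by
      rw [← Subgroup.map_comap_eq_self_of_surjective (f := e.symm.toMonoidHom) e.symm.surjective H, h,
        Subgroup.map_top_of_surjective _ e.symm.surjective])
    have h := psp_four_three (ZMod.card 3) _ hne'
    rw [Subgroup.index_comap_of_surjective _ (f := e.symm.toMonoidHom) e.symm.surjective] at h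
    exact h

end Cfsg.Agent.Lib.MinIndexU4
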