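import Mathlib
import Cfsg.Prelude.Def_Classical
import Cfsg.Agent.Lib.Forms.Bridge

/-!
# Minimal index in `SU₄(q)`: the model group, the radical `R x k` of the stabiliser of the point
`a = e₀` and the Levi elements

The form has `B(e₀, e₃) = 1` and `B(e₁, e₂) = δ` with `δ` of trace zero, so the special unitary
group of `⟨e₁, e₂⟩` consists of the matrices of determinant one over the fixed field.
-/

set_option autoImplicit false
set_option linter.unusedSectionVars false

namespace Cfsg.Agent.Lib.MinIndexU4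

open Matrix

/-- A field of `q²` elements with an element of trace zero. -/
structure Dat (F : Type*) [Field F] [Fintype F] (q : ℕ) where
  /-- the field has `q²` elements -/
  card : Fintype.card F = q ^ 2
  /-- the element of trace zero -/
  dl : F
  dl_ne : dl ≠ 0
  dl_pow : dl ^ q = -dl

variable {F : Type*} [Field F] [Fintype F] {q : ℕ} (D : Dat F q)

/-- The involution of the field. -/
noncomputable def cj : F →+* F := Forms.qPowHom D.card

theorem cj_pow (x : F) : cj D x = x ^ q := Forms.qPowHom_apply D.card x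

@[simp] theorem cj_cj (x : F) : cj D (cj D x) = x := Forms.qPowHom_qPowHom D.card x

@[simp] theorem cj_dl : cj D D.dl = -D.dl := by rw [cj_pow, D.dl_pow]

include D in
theorem two_le : 2 ≤ q := Forms.two_le_of_card_sq D.card

/-- The fixed field. -/
noncomputable def fix : Subfield F := RingHom.eqLocusField (cj D) (RingHom.id F)

theorem mem_fix {x : F} : x ∈ fix D ↔ cj D x = x := Iff.rfl

@[simp] theorem cj_coe (k : fix D) : cj D (k : F) = k := k.2

/-- The trace form. -/
noncomputable def tr (u v : F) : fix D :=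
  ⟨u * cj D v + cj D u * v, by rw [mem_fix]; simp; ring⟩

@[simp] theorem coe_tr (u v : F) : (tr D u v : F) = u * cj D v + cj D u * v := rfl

/-- The norm. -/
noncomputable def nm (u : F) : fix D := ⟨u * cj D u, by rw [mem_fix]; simp; ring⟩

@[simp] theorem coe_nm (u : F) : (nm D u : F) = u * cj D u := rfl

/-- The hermitian form. -/
noncomputable def bf (v w : Fin 4 → F) : F :=
  v 0 * cj D (w 3) + v 3 * cj D (w 0) + D.dl * (v 1 * cj D (w 2) - v 2 * cj D (w 1))

/-- The special unitary group of the form. -/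
def GJ : Subgroup (SpecialLinearGroup (Fin 4) F) where
  carrier := {g | ∀ v w : Fin 4 → F, bf D (g.1 *ᵥ v) (g.1 *ᵥ w) = bf D v w}
  mul_mem' := by
    intro g h hg hh v w
    show bf D ((g.1 * h.1) *ᵥ v) ((g.1 * h.1) *ᵥ w) = _
    rw [← mulVec_mulVec, ← mulVec_mulVec, hg, hh]
  one_mem' := by intro v w; simp
  inv_mem' := by
    intro g hg v w
    have h := hg ((g⁻¹).1 *ᵥ v) ((g⁻¹).1 *ᵥ w)
    have e : g.1 * (g⁻¹).1 = 1 := congrArg Subtype.val (mul_inv_cancel g)
    rw [mulVec_mulVec, mulVec_mulVec, e, one_mulVec, one_mulVec] at h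
    exact h.symm

variable {D}

/-- The action on vectors. -/
def act (g : GJ D) (v : Fin 4 → F) : Fin 4 → F := g.1.1 *ᵥ v

theorem act_mul (g h : GJ D) (v : Fin 4 → F) : act (g * h) v = act g (act h v) := by
  simp [act, mulVec_mulVec]

@[simp] theorem act_one (v : Fin 4 → F) : act (1 : GJ D) v = v := by simp [act]

theorem act_smul (g : GJ D) (c : F) (v : Fin 4 → F) : act g (c • v) = c • act g v := by
  simp [act, mulVec_smul]

theorem act_add (g : GJ D) (v w : Fin 4 → F) : act g (v + w) = act g v + act g w := by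
  simp [act, mulVec_add]

@[simp] theorem act_inv_act (g : GJ D) (v : Fin 4 → F) : act g⁻¹ (act g v) = v := by
  rw [← act_mul, inv_mul_cancel, act_one]

@[simp] theorem act_act_inv (g : GJ D) (v : Fin 4 → F) : act g (act g⁻¹ v) = v := by
  rw [← act_mul, mul_inv_cancel, act_one]

theorem bf_act (g : GJ D) (v w : Fin 4 → F) : bf D (act g v) (act g w) = bf D v w := g.2 v w

theorem ext_act {g h : GJ D} (e : ∀ v, act g v = act h v) : g = h :=
  Subtype.ext (Subtype.ext (Matrix.ext_iff_mulVec.2 e))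

variable (D)

/-- The coordinate vectors. -/
def ev (i : Fin 4) : Fin 4 → F := Pi.single i 1

/-- The point `a`. -/
def va : Fin 4 → F := ![1, 0, 0, 0]

/-- An element given by a matrix. -/
noncomputable def mk (M : Matrix (Fin 4) (Fin 4) F) (hd : M.det = 1)
    (hp : ∀ v w, bf D (M *ᵥ v) (M *ᵥ w) = bf D v w) : GJ D := ⟨⟨M, hd⟩, hp⟩

theorem act_mk (M : Matrix (Fin 4) (Fin 4) F) (hd : M.det = 1)
    (hp : ∀ v w, bf D (M *ᵥ v) (M *ᵥ w) = bf D v w) (v : Fin 4 → F) :
    act (mk D M hd hp) v = M *ᵥ v := rfl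

/-- The matrix of `R x k`. -/
noncomputable def rMat (x : F × F) (k : F) : Matrix (Fin 4) (Fin 4) F :=
  !![1, -(D.dl * cj D x.2), D.dl * cj D x.1, D.dl * (k - x.1 * cj D x.2);
     0, 1, 0, x.1; 0, 0, 1, x.2; 0, 0, 0, 1]

theorem rMat_mulVec (x : F × F) (k : F) (v : Fin 4 → F) :
    rMat D x k *ᵥ v = ![v 0 - D.dl * cj D x.2 * v 1 + D.dl * cj D x.1 * v 2 +
      D.dl * (k - x.1 * cj D x.2) * v 3, v 1 + x.1 * v 3, v 2 + x.2 * v 3, v 3] := by
  funext i
  fin_cases i <;> simp [rMat, mulVec, dotProduct, Fin.sum_univ_four]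
  ring

/-- The radical element `R x k`. -/
noncomputable def R (x : F × F) (k : fix D) : GJ D :=
  mk D (rMat D x k)
    (by
      rw [Matrix.det_of_isUpperTriangular (fun i j h => ?_)]
      · simp [rMat, Fin.prod_univ_four]
      · fin_cases i <;> fin_cases j <;> simp [rMat] at h ⊢)
    (fun v w => by
      simp only [rMat_mulVec, bf, cons_val_zero, cons_val_one, cons_val_two, cons_val_three,
        Matrix.cons_val, Fin.isValue, map_add, map_sub, map_mul, map_neg, cj_cj, cj_coe, cj_dl,
        tail_cons, head_cons]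
      ring)

theorem act_R (x : F × F) (k : fix D) (v : Fin 4 → F) :
    act (R D x k) v = ![v 0 - D.dl * cj D x.2 * v 1 + D.dl * cj D x.1 * v 2 +
      D.dl * (k - x.1 * cj D x.2) * v 3, v 1 + x.1 * v 3, v 2 + x.2 * v 3, v 3] :=
  rMat_mulVec D x k v

theorem R_mul (x y : F × F) (k l : fix D) :
    R D x k * R D y l = R D (x + y) (k + l + tr D x.1 y.2) := by
  refine ext_act fun v => ?_
  rw [act_mul, act_R, act_R, act_R]
  funext i
  fin_cases i <;> simp <;> ring

theorem R_zero : R D 0 0 = 1 := by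
  refine ext_act fun v => ?_
  rw [act_R, act_one]
  funext i
  fin_cases i <;> simp

theorem R_inv (x : F × F) (k : fix D) : (R D x k)⁻¹ = R D (-x) (-k + tr D x.1 x.2) := by
  refine inv_eq_of_mul_eq_one_right ?_
  rw [R_mul, ← R_zero D]
  congr 1
  · simp
  · exact Subtype.ext (by simp; ring)

theorem R_inj {x y : F × F} {k l : fix D} (h : R D x k = R D y l) : x = y ∧ k = l := by
  have h' := congrArg (fun g => act g ![0, 0, 0, 1]) h
  simp only [act_R] at h'
  have h1 := congrFun h' 1
  have h2 := congrFun h' 2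
  have h0 := congrFun h' 0
  simp at h1 h2 h0
  have hxy : x = y := Prod.ext h1 h2
  subst hxy
  refine ⟨rfl, Subtype.ext ?_⟩
  rcases h0 with h0 | h0
  · linear_combination h0
  · exact absurd h0 D.dl_ne

/-- The matrix of the Levi element of `S`. -/
noncomputable def sMat (S : Matrix (Fin 2) (Fin 2) (fix D)) : Matrix (Fin 4) (Fin 4) F :=
  !![1, 0, 0, 0; 0, (S 0 0 : F), (S 0 1 : F), 0; 0, (S 1 0 : F), (S 1 1 : F), 0; 0, 0, 0, 1]

theorem sMat_mulVec (S : Matrix (Fin 2) (Fin 2) (fix D)) (v : Fin 4 → F) :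
    sMat D S *ᵥ v = ![v 0, (S 0 0 : F) * v 1 + (S 0 1 : F) * v 2,
      (S 1 0 : F) * v 1 + (S 1 1 : F) * v 2, v 3] := by
  funext i
  fin_cases i <;> simp [sMat, mulVec, dotProduct, Fin.sum_univ_four]

theorem coe_det_two (S : SpecialLinearGroup (Fin 2) (fix D)) :
    (S.1 0 0 : F) * (S.1 1 1 : F) - (S.1 0 1 : F) * (S.1 1 0 : F) = 1 := by
  have h := congrArg (fun k : fix D => (k : F)) ((Matrix.det_fin_two S.1).symm.trans S.2)
  simpa using h

theorem sMat_det (S : SpecialLinearGroup (Fin 2) (fix D)) : (sMat D S.1).det = 1 := by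
  have h := coe_det_two D S
  rw [Matrix.det_succ_row_zero, Fin.sum_univ_four]
  simp [sMat, Matrix.det_fin_three, Fin.succAbove]
  linear_combination h

theorem sMat_form (S : SpecialLinearGroup (Fin 2) (fix D)) (v w : Fin 4 → F) :
    bf D (sMat D S.1 *ᵥ v) (sMat D S.1 *ᵥ w) = bf D v w := by
  have h := coe_det_two D S
  rw [sMat_mulVec, sMat_mulVec]
  simp [bf]
  left
  linear_combination (v 1 * cj D (w 2) - v 2 * cj D (w 1)) * h

/-- The Levi element of `S`. -/
noncomputable def lev : SpecialLinearGroup (Fin 2) (fix D) →* GJ D where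
  toFun S := mk D (sMat D S.1) (sMat_det D S) (sMat_form D S)
  map_one' := ext_act fun v => by
    rw [act_mk, act_one, sMat_mulVec]
    funext i
    fin_cases i <;> simp
  map_mul' S T := ext_act fun v => by
    rw [act_mul, act_mk, act_mk, act_mk, sMat_mulVec, sMat_mulVec, sMat_mulVec]
    funext i
    fin_cases i <;> simp [Matrix.mul_apply, Fin.sum_univ_two] <;> ring

theorem act_lev (S : SpecialLinearGroup (Fin 2) (fix D)) (v : Fin 4 → F) :
    act (lev D S) v = ![v 0, (S.1 0 0 : F) * v 1 + (S.1 0 1 : F) * v 2,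
      (S.1 1 0 : F) * v 1 + (S.1 1 1 : F) * v 2, v 3] := sMat_mulVec D S.1 v

/-- The action of a two by two matrix over the fixed field on pairs. -/
noncomputable def app (S : SpecialLinearGroup (Fin 2) (fix D)) (x : F × F) : F × F :=
  ((S.1 0 0 : F) * x.1 + (S.1 0 1 : F) * x.2, (S.1 1 0 : F) * x.1 + (S.1 1 1 : F) * x.2)

/-- The change of the central coordinate under `lev S`. -/
noncomputable def corr (S : SpecialLinearGroup (Fin 2) (fix D)) (x : F × F) : fix D :=
  S.1 0 0 * S.1 1 0 * nm D x.1 + S.1 0 1 * S.1 1 1 * nm D x.2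
    + S.1 0 1 * S.1 1 0 * tr D x.1 x.2

theorem lev_R (S : SpecialLinearGroup (Fin 2) (fix D)) (x : F × F) (k : fix D) :
    lev D S * R D x k = R D (app D S x) (k + corr D S x) * lev D S := by
  have h := coe_det_two D S
  refine ext_act fun v => ?_
  rw [act_mul, act_mul, act_R, act_lev, act_lev, act_R]
  funext i
  fin_cases i <;> simp [app, corr]
  · linear_combination ((D.dl * v 3 * x.1 * cj D x.2) + (D.dl * v 1 * cj D x.2)
      - (D.dl * v 2 * cj D x.1)) * h
  · ring
  · ring

/-- The upper unitriangular matrix. -/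
noncomputable def su (c : fix D) : SpecialLinearGroup (Fin 2) (fix D) :=
  ⟨!![1, c; 0, 1], by simp [Matrix.det_fin_two]⟩

theorem app_su (c : fix D) (x : F × F) : app D (su D c) x = (x.1 + (c : F) * x.2, x.2) := by
  simp [app, su]

theorem corr_su (c : fix D) (x : F × F) : corr D (su D c) x = c * nm D x.2 := by
  simp [corr, su]

theorem su_add (c d : fix D) : su D (c + d) = su D c * su D d := by
  refine Subtype.ext ?_
  rw [Matrix.SpecialLinearGroup.coe_mul]
  simp [su, add_comm c]

theorem su_zero : su D 0 = 1 := by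
  refine Subtype.ext ?_
  simp [su, Matrix.one_fin_two]

theorem su_inv (c : fix D) : (su D c)⁻¹ = su D (-c) :=
  inv_eq_of_mul_eq_one_right (by rw [← su_add, add_neg_cancel, su_zero])

/-- The diagonal matrix. -/
noncomputable def sd (z : (fix D)ˣ) : SpecialLinearGroup (Fin 2) (fix D) :=
  ⟨!![(z : fix D), 0; 0, ((z⁻¹ : (fix D)ˣ) : fix D)], by simp [Matrix.det_fin_two]⟩

theorem app_sd (z : (fix D)ˣ) (x : F × F) :
    app D (sd D z) x = (((z : fix D) : F) * x.1, (((z⁻¹ : (fix D)ˣ) : fix D) : F) * x.2) := by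
  simp [app, sd]

theorem corr_sd (z : (fix D)ˣ) (x : F × F) : corr D (sd D z) x = 0 := by
  simp [corr, sd]

theorem sd_su (z : (fix D)ˣ) (c : fix D) :
    sd D z * su D c = su D ((z : fix D) * (z : fix D) * c) * sd D z := by
  refine Subtype.ext ?_
  rw [Matrix.SpecialLinearGroup.coe_mul, Matrix.SpecialLinearGroup.coe_mul]
  ext i j
  fin_cases i <;> fin_cases j <;> simp [su, sd, Matrix.mul_apply, Fin.sum_univ_two] <;>
    field_simp

/-- The element swapping `e₀` and `e₁`. -/
noncomputable def sw : GJ D :=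
  mk D !![0, 1, 0, 0; 1, 0, 0, 0; 0, 0, 0, -D.dl⁻¹; 0, 0, -D.dl, 0]
    (by
      rw [Matrix.det_succ_row_zero]
      simp [Fin.sum_univ_four, Matrix.det_fin_three, Fin.succAbove, D.dl_ne])
    (fun v w => by
      simp [bf, mulVec, dotProduct, Fin.sum_univ_four]
      field_simp [D.dl_ne]
      ring)

theorem act_sw (v : Fin 4 → F) :
    act (sw D) v = ![v 1, v 0, -D.dl⁻¹ * v 3, -D.dl * v 2] := by
  funext i
  fin_cases i <;> simp [sw, act_mk, mulVec, dotProduct, Fin.sum_univ_four]

theorem sw_mul_sw : sw D * sw D = 1 := by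
  refine ext_act fun v => ?_
  rw [act_mul, act_sw, act_sw, act_one]
  funext i
  fin_cases i <;> simp [D.dl_ne]

end Cfsg.Agent.Lib.MinIndexU4
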