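import Cfsg.Agent.S0806
import Cfsg.Agent.Lib.Classical.LowRank.Index
import Cfsg.Agent.Lib.SL2.Conjugacy

/-!
# Minimal index in `SU₄(q)`: facts on subgroups of `SL₂(q)`
-/

set_option autoImplicit false
set_option linter.unusedSectionVars false

namespace Cfsg.Agent.Lib.MinIndexU4

open Matrix SL2

variable {K : Type*} [Field K]

theorem mem_of_lower {M : Subgroup (SLtwo K)} (hu : ∀ c, upper c ∈ M) (hl : ∀ c, lower c ∈ M)
    (g : SLtwo K) : g ∈ M := by
  have key : ∀ g : SLtwo K, g 1 0 ≠ 0 → g ∈ M := fun g hg => by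
    have hd := det_entries g
    rw [show g = upper ((g 0 0 - 1) / g 1 0) * lower (g 1 0) * upper ((g 1 1 - 1) / g 1 0) by
      apply ext_entries <;> simp [Matrix.mul_apply, Fin.sum_univ_two] <;> field_simp <;>
        first
          | ring1
          | linear_combination hd
          | linear_combination -hd
          | linear_combination (2 : K) * hd
          | linear_combination (-2 : K) * hd]
    exact M.mul_mem (M.mul_mem (hu _) (hl _)) (hu _)
  by_cases hg : g 1 0 = 0
  · have h1 : (g * lower 1 : SLtwo K) 1 0 ≠ 0 := by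
      rw [mul_10, lower_00, lower_10, hg, zero_mul, zero_add, mul_one]
      intro e
      have hd := det_entries g
      rw [hg, e] at hd
      simp at hd
    simpa using M.mul_mem (key _ h1) (M.inv_mem (hl 1))
  · exact key g hg

theorem eq_top_of_upper {M : Subgroup (SLtwo K)} (hu : ∀ c, upper c ∈ M) {g : SLtwo K}
    (hg : g ∈ M) (h10 : g 1 0 ≠ 0) : M = ⊤ := by
  refine eq_top_iff.2 fun x _ => mem_of_lower hu (fun c => ?_) x
  have hd := det_entries g
  set s := upper (-g 0 0 / g 1 0) * g * upper (-g 1 1 / g 1 0) with hs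
  have hsM : s ∈ M := M.mul_mem (M.mul_mem (hu _) hg) (hu _)
  have h00 : s 0 0 = 0 := by
    simp [hs, Matrix.mul_apply, Fin.sum_univ_two]; field_simp; ring
  have h11 : s 1 1 = 0 := by
    simp [hs, Matrix.mul_apply, Fin.sum_univ_two]; field_simp; ring
  have h10' : s 1 0 = g 1 0 := by simp [hs, Matrix.mul_apply, Fin.sum_univ_two]
  have hdet := det_entries s
  rw [h00, h11, zero_mul, zero_sub, h10'] at hdet
  have := M.mul_mem (M.mul_mem hsM (hu (-c / (g 1 0) ^ 2))) (M.inv_mem hsM)
  convert this using 1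
  apply ext_entries <;>
    simp [Matrix.mul_apply, Fin.sum_univ_two, Matrix.SpecialLinearGroup.coe_inv,
      Matrix.adjugate_fin_two, h00, h11, h10']
  · linear_combination -hdet
  · field_simp
  · linear_combination -hdet

variable [Fintype K]

theorem card_le_borel {M : Subgroup (SLtwo K)} (h : ∀ g ∈ M, g 1 0 = 0) :
    Nat.card M ≤ Fintype.card K * (Fintype.card K - 1) := by
  rw [mul_comm, ← card_borelSL (F := K)]
  exact Nat.card_le_card_of_injective (fun g : M => (⟨g.1, h g g.2⟩ : borelSL (F := K)))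
    fun a b e => Subtype.ext (congrArg (fun x : borelSL (F := K) => x.1) e)

theorem card_SLtwo : Nat.card (SLtwo K) = Fintype.card K * (Fintype.card K ^ 2 - 1) :=
  Classical.LowRank.natCard_SL_two K

/-- A subgroup of index prime to the characteristic contains a conjugate of the upper group. -/
theorem exists_conj_upper {p : ℕ} (hp : p.Prime) {j : ℕ} (hK : Fintype.card K = p ^ j)
    {M : Subgroup (SLtwo K)} (hM : ¬ p ∣ M.index) :
    ∃ S : SLtwo K, ∀ c, S * upper c * S⁻¹ ∈ M := by
  classical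
  haveI := Fact.mk hp
  obtain ⟨P⟩ : Nonempty (Sylow p M) := inferInstance
  have hj : j ≠ 0 := fun e => by
    have := Fintype.one_lt_card (α := K)
    rw [hK, e, pow_zero] at this; omega
  have hnd : ¬ p ∣ Fintype.card K ^ 2 - 1 := fun h => by
    have h1 : p ∣ Fintype.card K ^ 2 := by
      rw [hK, ← pow_mul]; exact dvd_pow_self _ (by omega)
    have h2 : 1 ≤ Fintype.card K ^ 2 := Nat.one_le_pow _ _ Fintype.card_pos
    have := Nat.dvd_sub h1 h
    rw [Nat.sub_sub_self h2] at this
    exact hp.not_dvd_one this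
  have hfac : (Nat.card (SLtwo K)).factorization p = j := by
    have h2 : 2 ≤ Fintype.card K := Fintype.one_lt_card
    have hne : Fintype.card K ^ 2 - 1 ≠ 0 := by
      have : 4 ≤ Fintype.card K ^ 2 := by nlinarith
      omega
    rw [card_SLtwo, Nat.factorization_mul Fintype.card_ne_zero hne, Finsupp.add_apply,
      Nat.factorization_eq_zero_of_not_dvd hnd, add_zero, hK, hp.factorization_pow,
      Finsupp.single_eq_same]
  let U : Subgroup (SLtwo K) := (upperHom (F := K)).range
  have hU : Nat.card U = p ^ (Nat.card (SLtwo K)).factorization p := by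
    rw [hfac, ← hK, ← Nat.card_eq_fintype_card,
      ← Nat.card_congr (MonoidHom.ofInjective upperHom_injective).toEquiv,
      Nat.card_congr Multiplicative.toAdd]
  let PU : Sylow p (SLtwo K) := Sylow.ofCard U hU
  have hP : Nat.card (P.map M.subtype) = p ^ (Nat.card (SLtwo K)).factorization p := by
    rw [← Nat.card_congr (Subgroup.equivMapOfInjective _ M.subtype M.subtype_injective).toEquiv,
      P.card_eq_multiplicity, ← M.card_mul_index,
      Nat.factorization_mul Nat.card_pos.ne' Subgroup.index_ne_zero_of_finite, Finsupp.add_apply,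
      Nat.factorization_eq_zero_of_not_dvd hM, add_zero]
  let PM : Sylow p (SLtwo K) := Sylow.ofCard _ hP
  obtain ⟨S, hS⟩ := MulAction.exists_smul_eq (SLtwo K) PU PM
  refine ⟨S, fun c => ?_⟩
  have hmem : S * upper c * S⁻¹ ∈ ((S • PU : Sylow p (SLtwo K)) : Subgroup (SLtwo K)) := by
    rw [Sylow.coe_subgroup_smul, Subgroup.mem_pointwise_smul_iff_inv_smul_mem]
    show _ ∈ U
    exact ⟨Multiplicative.ofAdd c, by simp [upperHom, MulAut.smul_def, MulAut.conj_inv_apply, mul_assoc]⟩
  rw [hS] at hmem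
  obtain ⟨m, -, hm⟩ := hmem
  rw [← hm]; exact m.2

/-- The image of a proper subgroup in `PSL₂` is proper. -/
theorem map_ne_top (h4 : 4 ≤ Fintype.card K) {M : Subgroup (SLtwo K)} (hM : M ≠ ⊤) :
    M.map (QuotientGroup.mk' (Subgroup.center (SLtwo K))) ≠ ⊤ := by
  classical
  intro e
  refine hM (eq_top_iff.2 fun x _ => ?_)
  have hdec : ∀ a : SLtwo K, ∃ m ∈ M, ∀ y, (m⁻¹ * a) * y = y * (m⁻¹ * a) := by
    intro a
    obtain ⟨m, hm, hma⟩ := (e ▸ Subgroup.mem_top
      (QuotientGroup.mk' (Subgroup.center (SLtwo K)) a) :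
      QuotientGroup.mk' _ a ∈ M.map (QuotientGroup.mk' (Subgroup.center (SLtwo K))))
    exact ⟨m, hm, fun y => (Subgroup.mem_center_iff.1 (QuotientGroup.eq.1 hma) y).symm⟩
  have hcomm : ∀ a b : SLtwo K, a * b * a⁻¹ * b⁻¹ ∈ M := by
    intro a b
    obtain ⟨m, hm, hma⟩ := hdec a
    obtain ⟨k, hk, hkb⟩ := hdec b
    rw [show a = m * (m⁻¹ * a) by group, show b = k * (k⁻¹ * b) by group]
    generalize m⁻¹ * a = x at hma ⊢
    generalize k⁻¹ * b = y at hkb ⊢
    rw [show m * x * (k * y) * (m * x)⁻¹ * (k * y)⁻¹ =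
      m * (x * (k * y) * x⁻¹) * m⁻¹ * y⁻¹ * k⁻¹ by group, hma, mul_inv_cancel_right,
      show m * (k * y) * m⁻¹ * y⁻¹ * k⁻¹ = m * k * (y * m⁻¹ * y⁻¹) * k⁻¹ by group, hkb,
      mul_inv_cancel_right]
    exact M.mul_mem (M.mul_mem (M.mul_mem hm hk) (M.inv_mem hm)) (M.inv_mem hk)
  obtain ⟨z, hz⟩ : ∃ z : Kˣ, (z : K) ^ 2 ≠ 1 := by
    by_contra h
    push Not at h
    have hle : Fintype.card K ≤ ({0, 1, -1} : Finset K).card := by
      rw [← Finset.card_univ]
      refine Finset.card_le_card fun x _ => ?_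
      by_cases hx : x = 0
      · simp [hx]
      · rcases sq_eq_one_iff.1 (h (Units.mk0 x hx)) with e | e <;> simp_all
    have := Finset.card_le_three (a := (0 : K)) (b := 1) (c := -1)
    omega
  have hu : ∀ c, upper c ∈ M := fun c => by
    have h := hcomm (diag z) (upper (c / ((z : K) ^ 2 - 1)))
    rw [diag_conj_upper, upper_inv, upper_mul] at h
    convert h using 2
    field_simp [sub_ne_zero.2 hz]
    ring
  refine mem_of_lower hu (fun c => ?_) x
  have h := M.mul_mem (hcomm weyl (upper (-c))) (hu (-c))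
  rw [weyl_conj_upper, neg_neg, inv_mul_cancel_right] at h
  exact h

/-- Small index: only five exceptional fields. -/
theorem exceptional {M : Subgroup (SLtwo K)} (hM : M ≠ ⊤) (hm : M.index ≤ Fintype.card K) :
    Fintype.card K ∈ ({2, 3, 5, 7, 9, 11} : Finset ℕ) := by
  by_contra hq
  have h4 : 4 ≤ Fintype.card K := by
    have h2 : 2 ≤ Fintype.card K := Fintype.one_lt_card
    simp only [Finset.mem_insert, Finset.mem_singleton, not_or] at hq
    omega
  have hge := (S0806.result (F := K) rfl hq).1 _ (map_ne_top h4 hM)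
  have hdvd := Subgroup.index_map_dvd M
    (QuotientGroup.mk'_surjective (Subgroup.center (SLtwo K)))
  have := Nat.le_of_dvd (Nat.pos_of_ne_zero Subgroup.index_ne_zero_of_finite) hdvd
  omega

/-- The elements commuting with a non-scalar matrix are few. -/
theorem card_centralizer_le {A : Matrix (Fin 2) (Fin 2) K} (hA : ¬ IsScalarMat A) :
    Nat.card {S : SLtwo K // (S : Matrix (Fin 2) (Fin 2) K) * A = A * S} ≤
      2 * Fintype.card K := by
  classical
  obtain ⟨v, hv⟩ := exists_cycForm_ne_zero hA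
  set C := cycBasis A v with hC
  have hCd : IsUnit C.det := by rw [hC, det_cycBasis]; exact isUnit_iff_ne_zero.2 hv
  set N : {S : SLtwo K // (S : Matrix (Fin 2) (Fin 2) K) * A = A * S} → Matrix (Fin 2) (Fin 2) K :=
    fun S => C⁻¹ * S.1.1 * C with hN
  set t := A 0 0 + A 1 1
  set d := A.det
  have hAC : A * C = C * compMat t d := mul_cycBasis A v
  have hcomm : ∀ S, N S * compMat t d = compMat t d * N S := fun S => by
    have e1 : compMat t d = C⁻¹ * A * C := by
      rw [Matrix.mul_assoc, hAC, ← Matrix.mul_assoc, Matrix.nonsing_inv_mul _ hCd, one_mul]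
    simp only [hN, e1]
    rw [show C⁻¹ * S.1.1 * C * (C⁻¹ * A * C) = C⁻¹ * S.1.1 * (C * C⁻¹) * A * C by
      simp only [Matrix.mul_assoc], show C⁻¹ * A * C * (C⁻¹ * S.1.1 * C) =
      C⁻¹ * A * (C * C⁻¹) * S.1.1 * C by simp only [Matrix.mul_assoc],
      Matrix.mul_nonsing_inv _ hCd, mul_one, mul_one, Matrix.mul_assoc _ S.1.1 A, S.2,
      ← Matrix.mul_assoc]
  have hinj : Function.Injective N := fun S T e => by
    have e' : C * (C⁻¹ * S.1.1 * C) * C⁻¹ = C * (C⁻¹ * T.1.1 * C) * C⁻¹ := by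
      simp only [hN] at e; rw [e]
    simp only [← Matrix.mul_assoc, Matrix.mul_nonsing_inv _ hCd, one_mul] at e'
    simp only [Matrix.mul_assoc, Matrix.mul_nonsing_inv _ hCd, mul_one] at e'
    exact Subtype.ext (Subtype.ext e')
  have hshape : ∀ S, N S 0 1 = -(d * N S 1 0) ∧ N S 1 1 = N S 0 0 + t * N S 1 0 := fun S => by
    have e := hcomm S
    have e00 := congrArg (fun X : Matrix (Fin 2) (Fin 2) K => X 0 0) e
    have e10 := congrArg (fun X : Matrix (Fin 2) (Fin 2) K => X 1 0) e
    simp [compMat, Matrix.mul_apply, Fin.sum_univ_two] at e00 e10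
    exact ⟨by linear_combination e00, by linear_combination e10⟩
  have hdet : ∀ S, (N S).det = 1 := fun S => by
    simp only [hN]
    rw [det_mul, det_mul, S.1.2, mul_one, ← det_mul, Matrix.nonsing_inv_mul _ hCd, det_one]
  let ch : K → K := fun b =>
    if h : ∃ a : K, a * a + t * a * b + d * b * b = 1 then h.choose else 0
  calc _ ≤ Nat.card (K × Bool) := ?_
    _ = 2 * Fintype.card K := by simp [Nat.card_eq_fintype_card, mul_comm]
  refine Nat.card_le_card_of_injective (fun S => (N S 1 0, decide (N S 0 0 = ch (N S 1 0))))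
    fun S T e => hinj ?_
  simp only [Prod.mk.injEq, decide_eq_decide] at e
  obtain ⟨eb, ea⟩ := e
  have hsol : ∀ S, N S 0 0 * N S 0 0 + t * N S 0 0 * N S 1 0 + d * N S 1 0 * N S 1 0 = 1 := fun S => by
    have := hdet S
    rw [Matrix.det_fin_two, (hshape S).1, (hshape S).2] at this
    linear_combination this
  have hch : ∀ S, ch (N S 1 0) * ch (N S 1 0) + t * ch (N S 1 0) * N S 1 0 +
      d * N S 1 0 * N S 1 0 = 1 := fun S => by
    have hex : ∃ a : K, a * a + t * a * N S 1 0 + d * N S 1 0 * N S 1 0 = 1 := ⟨_, hsol S⟩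
    simp only [ch, dif_pos hex]
    exact hex.choose_spec
  have other : ∀ S, N S 0 0 ≠ ch (N S 1 0) → N S 0 0 = -(t * N S 1 0) - ch (N S 1 0) := fun S hne => by
    have h0 : (N S 0 0 - ch (N S 1 0)) * (N S 0 0 + ch (N S 1 0) + t * N S 1 0) = 0 := by
      linear_combination hsol S - hch S
    rcases mul_eq_zero.1 h0 with h | h
    · exact absurd (sub_eq_zero.1 h) hne
    · linear_combination h
  have e00 : N S 0 0 = N T 0 0 := by
    by_cases h : N S 0 0 = ch (N S 1 0)
    · rw [h, ea.1 h, eb]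
    · rw [other S h, other T fun h' => h (ea.2 h'), eb]
  ext i j
  fin_cases i <;> fin_cases j
  · exact e00
  · exact (hshape S).1.trans (((congrArg (fun z => -(d * z)) eb :)).trans (hshape T).1.symm)
  · exact eb
  · exact (hshape S).2.trans ((by rw [e00, eb] : _ = N T 0 0 + t * N T 1 0).trans (hshape T).2.symm)

/-- A subgroup preserving a line is small. -/
theorem card_le_of_line {M : Subgroup (SLtwo K)} {x y : K} (h0 : x ≠ 0 ∨ y ≠ 0)
    (hfix : ∀ S ∈ M, ∃ c, S 0 0 * x + S 0 1 * y = c * x ∧ S 1 0 * x + S 1 1 * y = c * y) :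
    Nat.card M ≤ Fintype.card K * (Fintype.card K - 1) := by
  obtain ⟨T, h00, h10⟩ : ∃ T : SLtwo K, T 0 0 = x ∧ T 1 0 = y := by
    rcases h0 with hx | hy
    · exact ⟨ofEntries x 0 y x⁻¹ (by field_simp; ring), rfl, rfl⟩
    · exact ⟨ofEntries x (-y⁻¹) y 0 (by field_simp; ring), rfl, rfl⟩
  have e : Nat.card M = Nat.card (M.map (MulAut.conj T⁻¹).toMonoidHom) :=
    Nat.card_congr (M.equivMapOfInjective _ (MulAut.conj T⁻¹).injective).toEquiv
  rw [e]
  refine card_le_borel ?_
  rintro _ ⟨S, hS, rfl⟩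
  obtain ⟨c, h1, h2⟩ := hfix S hS
  show (T⁻¹ * S * T⁻¹⁻¹) 1 0 = 0
  rw [inv_inv, mul_10, mul_10, mul_11, inv_10, inv_11, h00, h10]
  linear_combination x * h2 - y * h1

/-- For nine elements, an element of order five has trace outside the prime field. -/
theorem trace_five (h3 : (3 : K) = 0) {g : SLtwo K} (hg : orderOf g = 5) :
    tr g ≠ 0 ∧ tr g ≠ 1 ∧ tr g ≠ -1 := by
  have h5 : (g : Matrix (Fin 2) (Fin 2) K) ^ 5 = 1 := by
    have h := pow_orderOf_eq_one g
    rw [hg] at h
    exact (Matrix.SpecialLinearGroup.coe_pow g 5).symm.trans (congrArg Subtype.val h)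
  have hne : (g : Matrix (Fin 2) (Fin 2) K) ≠ 1 := fun e => by
    rw [show g = 1 from Subtype.ext e, orderOf_one] at hg; norm_num at hg
  set G := (g : Matrix (Fin 2) (Fin 2) K)
  have hch : G * G = tr g • G - 1 := cayley_hamilton g
  have key : ∀ {n : ℕ}, G ^ n = 1 → Nat.Coprime n 5 → False := fun {n} hn hc => hne <| by
    have h1 := pow_gcd_eq_one.2 ⟨hn, h5⟩
    rwa [Nat.coprime_iff_gcd_eq_one.1 hc, pow_one] at h1
  refine ⟨fun e => key (n := 4) ?_ (by norm_num), fun e => key (n := 6) ?_ (by norm_num),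
    fun e => key (n := 3) ?_ (by norm_num)⟩
  · rw [e, zero_smul, zero_sub] at hch
    rw [show 4 = 2 * 2 from rfl, pow_mul, sq G, hch]; simp
  · rw [e, one_smul] at hch
    have h33 : G ^ 3 = -1 := by rw [pow_succ, sq, hch, sub_mul, one_mul, hch]; abel
    rw [show 6 = 3 * 2 from rfl, pow_mul, h33]; simp
  · rw [e, neg_one_smul] at hch
    rw [pow_succ, sq, hch, sub_mul, neg_mul, one_mul, hch]; abel

end Cfsg.Agent.Lib.MinIndexU4
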