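import Cfsg.Agent.Lib.MinIndexU4.Bound
import Cfsg.Agent.Lib.MinIndexU4.SL2

/-!
# Minimal index in `SU₄(q)`: when `M` has index at most `q`, `W` is a small subspace
-/

set_option autoImplicit false
set_option linter.unusedSectionVars false

namespace Cfsg.Agent.Lib.MinIndexU4

open Matrix SL2

variable {F : Type*} [Field F] [Fintype F] {q : ℕ} {D : Dat F q} {H : Subgroup (GJ D)}

theorem su_eq_upper (c : fix D) : su D c = upper c := rfl

theorem two_ne_zero_of_odd (hq : Odd q) : (2 : fix D) ≠ 0 := by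
  intro h2
  have hc : ((Nat.card (fix D) : ℕ) : fix D) = 0 := by
    haveI : Fintype (fix D) := Fintype.ofFinite _
    rw [Nat.card_eq_fintype_card]; exact Nat.cast_card_eq_zero _
  obtain ⟨k, hk⟩ := hq
  rw [card_fix] at hc
  rw [congrArg (Nat.cast (R := fix D)) hk, Nat.cast_add, Nat.cast_mul, Nat.cast_ofNat, h2, zero_mul,
    zero_add, Nat.cast_one] at hc
  exact one_ne_zero hc

variable (D) in
/-- The scalars preserving `W`. -/
noncomputable def scal (H : Subgroup (GJ D)) : AddSubgroup (fix D) where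
  carrier := {r | ∀ x ∈ WH D H, r • x ∈ WH D H}
  zero_mem' := fun x _ => by rw [zero_smul]; exact (WH D H).zero_mem
  add_mem' := fun ha hb x hx => by rw [add_smul]; exact (WH D H).add_mem (ha x hx) (hb x hx)
  neg_mem' := fun ha x hx => by rw [neg_smul]; exact (WH D H).neg_mem (ha x hx)

theorem one_mem_scal : (1 : fix D) ∈ scal D H := fun x hx => by rwa [one_smul]

theorem tr_mem_scal {S : SpecialLinearGroup (Fin 2) (fix D)} (hS : S ∈ MH D H) :
    SL2.tr S ∈ scal D H := fun x hx => by
  have h := (WH D H).add_mem (MH_WH hS hx) (MH_WH ((MH D H).inv_mem hS) hx)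
  convert h using 1
  simp [app, SL2.tr, smul_def, inv_00, inv_01, inv_10, inv_11, Prod.ext_iff]
  constructor <;> ring

theorem closed_of_exceptional (hm : (MH D H).index ≤ q)
    (hcase : q.Prime ∨ (q = 9 ∧ 3 ∣ (MH D H).index)) : WClosed D H := by
  haveI : Fintype (fix D) := Fintype.ofFinite _
  suffices h : scal D H = ⊤ from fun r x hx => (h ▸ AddSubgroup.mem_top r : r ∈ scal D H) x hx
  have hdvd : Nat.card (scal D H) ∣ q := by
    conv_rhs => rw [← card_fix D]
    exact AddSubgroup.card_addSubgroup_dvd_card _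
  refine AddSubgroup.eq_top_of_card_eq _ ?_
  rw [card_fix]
  have h2 : 2 ≤ Nat.card (scal D H) := by
    have : Nontrivial (scal D H) := ⟨⟨1, one_mem_scal⟩, 0, fun e => one_ne_zero (congrArg Subtype.val e)⟩
    exact Finite.one_lt_card
  rcases hcase with hp | ⟨rfl, h3⟩
  · exact ((Nat.dvd_prime hp).1 hdvd).resolve_left (by omega)
  · have hcard : (MH D H).index * Nat.card (MH D H) = 720 := by
      rw [Subgroup.index_mul_card, natCard_SL]
      norm_num
    have hi : (MH D H).index ≠ 0 := Subgroup.index_ne_zero_of_finite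
    have h5 : 5 ∣ Nat.card (MH D H) := by
      obtain ⟨j, hj⟩ := h3
      rw [hj] at hcard hm hi
      have : j ≤ 3 := by omega
      interval_cases j <;> omega
    haveI : Fact (Nat.Prime 5) := ⟨by norm_num⟩
    obtain ⟨g, hg⟩ := exists_prime_orderOf_dvd_card' (G := MH D H) 5 h5
    have hg' : orderOf (g : SpecialLinearGroup (Fin 2) (fix D)) = 5 := by
      rw [Subgroup.orderOf_coe, hg]
    have h3K : (3 : fix D) = 0 := by
      have h := Nat.cast_card_eq_zero (fix D)
      rw [← Nat.card_eq_fintype_card, card_fix, show ((9 : ℕ) : fix D) = (3 : fix D) ^ 2 by norm_num] at h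
      exact pow_eq_zero_iff two_ne_zero |>.1 h
    obtain ⟨t0, t1, t2⟩ := trace_five h3K hg'
    have ht := tr_mem_scal g.2
    set t := SL2.tr (g : SpecialLinearGroup (Fin 2) (fix D))
    have hone : (1 : fix D) ≠ -1 := fun e => two_ne_zero_of_odd (D := D) (by decide) (by linear_combination e)
    classical
    have h4 : 4 ≤ Nat.card (scal D H) := by
      have hs : ({0, 1, -1, t} : Finset (fix D)).card = 4 := by
        rw [Finset.card_insert_of_notMem, Finset.card_insert_of_notMem, Finset.card_pair] <;>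
          simp [hone, Ne.symm t0, Ne.symm t1, Ne.symm t2]
      rw [← hs, ← Nat.card_eq_finsetCard]
      refine Nat.card_le_card_of_injective (fun x => ⟨x.1, ?_⟩) fun x y e =>
        Subtype.ext (congrArg (fun z : scal D H => z.1) e)
      have hx := x.2
      simp only [Finset.mem_insert, Finset.mem_singleton] at hx
      rcases hx with e | e | e | e <;> rw [e]
      · exact (scal D H).zero_mem
      · exact one_mem_scal
      · exact (scal D H).neg_mem one_mem_scal
      · exact ht
    have hle := Nat.le_of_dvd (by norm_num) hdvd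
    interval_cases hn : Nat.card (scal D H) <;> omega

variable (D) in
/-- The imaginary part. -/
noncomputable def imag (x : F) : fix D :=
  ⟨(x - cj D x) / (2 * D.dl), by
    rw [mem_fix, map_div₀, map_mul, map_ofNat, cj_dl, map_sub, cj_cj, mul_neg, div_neg, ← neg_div,
      neg_sub]⟩

theorem card_WH_ne (hq : 3 ≤ q) (hodd : Odd q) (ha : ¬ Root H va) (hW : WClosed D H)
    (hM : q ^ 2 - 1 ≤ Nat.card (MH D H)) : Nat.card (WH D H) ≠ q ^ 2 := by
  intro hcard
  haveI : Fintype (fix D) := Fintype.ofFinite _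
  have hK : Fintype.card (fix D) = q := by rw [← Nat.card_eq_fintype_card, card_fix]
  have h2 : (2 : fix D) ≠ 0 := two_ne_zero_of_odd hodd
  have h2F : (2 : F) ≠ 0 := fun e => h2 (Subtype.ext (by simpa using e))
  have hd := D.dl_ne
  -- the commutator form vanishes on `W`
  have hom : ∀ x ∈ WH D H, ∀ z ∈ WH D H, om D x z = 0 := by
    intro x hx z hz
    by_contra hne
    refine ZH_ne_top ha (eq_top_iff.2 fun k _ => ?_)
    have h := om_mem (hW (k / om D x z) x hx) hz
    convert h using 1
    rw [← omL_apply, map_smul, LinearMap.smul_apply, omL_apply, smul_eq_mul, div_mul_cancel₀ _ hne]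
  have hbig : q * (q - 1) < Nat.card (MH D H) ∧ 2 * q < Nat.card (MH D H) := by
    obtain ⟨t, rfl⟩ := Nat.exists_eq_add_of_le hq
    have e : (3 + t) ^ 2 - 1 = (3 + t) * (3 + t - 1) + (t + 2) := by
      rw [show 3 + t - 1 = 2 + t by omega]
      exact Nat.sub_eq_of_eq_add (by ring)
    rw [e] at hM
    refine ⟨by omega, ?_⟩
    rw [show 3 + t - 1 = 2 + t by omega] at hM
    nlinarith
  -- no real vectors
  have hreal : ∀ x ∈ WH D H, cj D x.1 = x.1 → cj D x.2 = x.2 → x = 0 := by
    rintro ⟨u, v⟩ hx (hu : cj D u = u) (hv : cj D v = v)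
    by_contra hx0
    have hline : ∀ u' v' : fix D, ((u' : F), (v' : F)) ∈ WH D H → u * v' = v * u' := by
      intro u' v' hz
      have e := congrArg (fun k : fix D => (k : F)) (hom _ hx _ hz)
      simp [om, hu, hv] at e
      exact mul_left_cancel₀ h2F (by linear_combination e)
    have hxy : (⟨u, hu⟩ : fix D) ≠ 0 ∨ (⟨v, hv⟩ : fix D) ≠ 0 := by
      by_contra h
      push Not at h
      exact hx0 (Prod.ext (congrArg Subtype.val h.1) (congrArg Subtype.val h.2))
    have hle : Nat.card (MH D H) ≤ _ := card_le_of_line hxy fun S hS => by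
      have hz := hline (S.1 0 0 * ⟨u, hu⟩ + S.1 0 1 * ⟨v, hv⟩) (S.1 1 0 * ⟨u, hu⟩ + S.1 1 1 * ⟨v, hv⟩)
        (by simpa [app] using MH_WH hS hx)
      have hz' : (⟨u, hu⟩ : fix D) * (S.1 1 0 * ⟨u, hu⟩ + S.1 1 1 * ⟨v, hv⟩) =
          ⟨v, hv⟩ * (S.1 0 0 * ⟨u, hu⟩ + S.1 0 1 * ⟨v, hv⟩) := Subtype.ext (by simpa using hz)
      by_cases h0 : (⟨u, hu⟩ : fix D) = 0
      · have hv0 := hxy.resolve_left (not_not.2 h0)
        refine ⟨S.1 1 1, ?_, by rw [h0]; ring⟩
        rw [h0] at hz' ⊢
        simp only [mul_zero, zero_add, zero_mul] at hz' ⊢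
        exact (mul_eq_zero.1 hz'.symm).resolve_left hv0
      · refine ⟨(S.1 0 0 * ⟨u, hu⟩ + S.1 0 1 * ⟨v, hv⟩) / ⟨u, hu⟩, (div_mul_cancel₀ _ h0).symm, ?_⟩
        rw [div_mul_eq_mul_div, eq_div_iff h0]
        linear_combination hz'
    rw [hK] at hle
    omega
  have hinj : Function.Injective fun x : WH D H => (imag D x.1.1, imag D x.1.2) := by
    rintro ⟨x, hx⟩ ⟨z, hz⟩ e
    simp only [Prod.mk.injEq, imag, Subtype.mk.injEq] at e
    refine Subtype.ext (sub_eq_zero.1 (hreal _ ((WH D H).sub_mem hx hz) ?_ ?_))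
    · have := e.1
      field_simp at this
      simp only [Prod.fst_sub, map_sub]
      linear_combination -this
    · have := e.2
      field_simp at this
      simp only [Prod.snd_sub, map_sub]
      linear_combination -this
  have hbij := (Nat.bijective_iff_injective_and_card _).2 ⟨hinj, by
    rw [hcard, Nat.card_prod, card_fix, sq]⟩
  obtain ⟨⟨y1, hy1⟩, e1⟩ := hbij.surjective (1, 0)
  obtain ⟨⟨y2, hy2⟩, e2⟩ := hbij.surjective (0, 1)
  simp only [Prod.mk.injEq] at e1 e2
  have hsplit : ∀ (x : F) (k : fix D), imag D x = k → ∃ r : fix D, x = r + D.dl * k := by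
    intro x k hk
    refine ⟨⟨x - D.dl * k, ?_⟩, by simp⟩
    have := congrArg (fun k : fix D => (k : F)) hk
    simp [imag] at this
    field_simp at this
    rw [mem_fix, map_sub, map_mul, cj_dl, cj_coe]
    linear_combination -this
  obtain ⟨j00, h11⟩ := hsplit _ _ e1.1
  obtain ⟨j10, h12⟩ := hsplit _ _ e1.2
  obtain ⟨j01, h21⟩ := hsplit _ _ e2.1
  obtain ⟨j11, h22⟩ := hsplit _ _ e2.2
  simp at h11 h12 h21 h22
  set J : Matrix (Fin 2) (Fin 2) (fix D) := !![j00, j01; j10, j11] with hJ
  have hcomb : ∀ (x : F × F), x ∈ WH D H → ∀ a b r s : fix D,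
      x = ((r : F) + D.dl * a, (s : F) + D.dl * b) →
      r = j00 * a + j01 * b ∧ s = j10 * a + j11 * b := by
    intro x hx a b r s e
    have hd' := (WH D H).sub_mem hx ((WH D H).add_mem (hW a y1 hy1) (hW b y2 hy2))
    have e' : x - (a • y1 + b • y2) =
        (((r - (j00 * a + j01 * b) : fix D) : F), ((s - (j10 * a + j11 * b) : fix D) : F)) := by
      rw [e]
      ext <;> simp [smul_def, h11, h12, h21, h22] <;> ring
    have h0 := hreal _ hd' (by rw [e']; simp) (by rw [e']; simp)
    rw [e'] at h0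
    simp only [Prod.mk_eq_zero] at h0
    exact ⟨sub_eq_zero.1 (Subtype.ext h0.1), sub_eq_zero.1 (Subtype.ext h0.2)⟩
  by_cases hsc : IsScalarMat J
  · obtain ⟨ha1, ha2, ha3⟩ := hsc
    simp [hJ] at ha1 ha2 ha3
    have e := congrArg (fun k : fix D => (k : F)) (hom _ hy1 _ hy2)
    simp [om, h11, h12, h21, h22, ha1, ha2, ← ha3] at e
    have hsq : ((j00 : F) - D.dl) * ((j00 : F) + D.dl) = 0 :=
      mul_left_cancel₀ h2F (by linear_combination e)
    have hreal' : cj D D.dl = D.dl := by
      rcases mul_eq_zero.1 hsq with h | h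
      · rw [← sub_eq_zero.1 h]; exact cj_coe D j00
      · rw [show D.dl = -(j00 : F) by linear_combination h, map_neg, cj_coe]
    rw [cj_dl] at hreal'
    exact hd ((mul_eq_zero.1 (show (2 : F) * D.dl = 0 by linear_combination -hreal')).resolve_left h2F)
  · have hle : Nat.card (MH D H) ≤ _ := (Nat.card_le_card_of_injective
      (fun S : MH D H => (⟨S.1, ?_⟩ : {T : SLtwo (fix D) // T.1 * J = J * T.1}))
      fun S T e => Subtype.ext (congrArg (fun z : {T : SLtwo (fix D) // T.1 * J = J * T.1} => z.1) e)).trans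
      (card_centralizer_le hsc)
    · rw [hK] at hle; omega
    obtain ⟨S, hS⟩ := S
    have r1 := hcomb _ (MH_WH hS hy1) (S.1 0 0) (S.1 1 0)
      (S.1 0 0 * j00 + S.1 0 1 * j10) (S.1 1 0 * j00 + S.1 1 1 * j10)
      (by ext <;> simp [app, h11, h12] <;> ring)
    have r2 := hcomb _ (MH_WH hS hy2) (S.1 0 1) (S.1 1 1)
      (S.1 0 0 * j01 + S.1 0 1 * j11) (S.1 1 0 * j01 + S.1 1 1 * j11)
      (by ext <;> simp [app, h21, h22] <;> ring)
    ext i j
    fin_cases i <;> fin_cases j <;> simp [hJ, Matrix.mul_apply, Fin.sum_univ_two]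
    · exact congrArg (fun k : fix D => (k : F)) r1.1
    · exact congrArg (fun k : fix D => (k : F)) r2.1
    · exact congrArg (fun k : fix D => (k : F)) r1.2
    · exact congrArg (fun k : fix D => (k : F)) r2.2

end Cfsg.Agent.Lib.MinIndexU4
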