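import Cfsg.Agent.Lib.MinIndexU4.Borel
import Cfsg.Agent.Lib.MinIndexU4.Small

/-!
# Minimal index in `SU₄(q)`: the case `M ≠ SL₂(q)`
-/

set_option autoImplicit false
set_option linter.unusedSectionVars false

namespace Cfsg.Agent.Lib.MinIndexU4

open Matrix SL2

variable {F : Type*} [Field F] [Fintype F] {q : ℕ} {D : Dat F q}

theorem natCard_WH_dvd (H : Subgroup (GJ D)) : Nat.card (WH D H) ∣ q ^ 4 := by
  have h := AddSubgroup.card_addSubgroup_dvd_card (WH D H)
  rwa [natCard_prod D, ← pow_add] at h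

theorem exists_prime_pow (D : Dat F q) :
    ∃ (p j : ℕ), p.Prime ∧ 0 < j ∧ q = p ^ j := by
  haveI : Fintype (fix D) := Fintype.ofFinite _
  obtain ⟨p, _⟩ := CharP.exists (fix D)
  obtain ⟨j, hp, hj⟩ := FiniteField.card (fix D) p
  exact ⟨p, j, hp, j.2, by rw [← hj, ← Nat.card_eq_fintype_card, card_fix]⟩

theorem two_mul_WH {H : Subgroup (GJ D)} (h : Nat.card (WH D H) < q ^ 2) :
    2 * Nat.card (WH D H) ≤ q ^ 2 := by
  obtain ⟨p, j, hp, hj, rfl⟩ := exists_prime_pow D
  have hdvd := natCard_WH_dvd H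
  rw [← pow_mul] at hdvd h ⊢
  obtain ⟨i, -, hi⟩ := (Nat.dvd_prime_pow hp).1 hdvd
  rw [hi] at h ⊢
  have hlt : i < j * 2 := (Nat.pow_lt_pow_iff_right hp.one_lt).1 h
  calc 2 * p ^ i ≤ p * p ^ i := Nat.mul_le_mul_right _ hp.two_le
    _ = p ^ (i + 1) := (pow_succ' p i).symm
    _ ≤ _ := Nat.pow_le_pow_right hp.pos hlt

theorem arith_bound {H : Subgroup (GJ D)} {A B C : ℕ}
    (hA : Nat.card (DH D H) * Nat.card (ZH D H) * C ≤ A) (hB : Nat.card (MH D H) * Nat.card (WH D H) ≤ B)
    (hC : 0 < C) (h : target q * (A * B) ≤ Nat.card (Pst D) * C) : target q ≤ H.index := by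
  refine index_ge H (Nat.le_of_mul_le_mul_right (le_trans ?_ h) hC)
  rw [card_inf]
  calc target q * (Nat.card (DH D H) * Nat.card (ZH D H) *
        (Nat.card (MH D H) * Nat.card (WH D H))) * C
      = target q * (Nat.card (DH D H) * Nat.card (ZH D H) * C *
        (Nat.card (MH D H) * Nat.card (WH D H))) := by ring
    _ ≤ _ := Nat.mul_le_mul_left _ (Nat.mul_le_mul hA hB)

theorem sq_sub_one (q : ℕ) (hq : 1 ≤ q) : q ^ 2 - 1 = (q + 1) * (q - 1) := by
  obtain ⟨t, rfl⟩ := Nat.exists_eq_add_of_le hq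
  rw [Nat.add_sub_cancel_left]
  exact Nat.sub_eq_of_eq_add (by ring)

/-- `M` contains the transvections at `e₁`. -/
theorem upper_case {H : Subgroup (GJ D)} (hq : 3 ≤ q) (ha : ¬ Root H va) (hM : MH D H ≠ ⊤)
    (hsu : ∀ c, su D c ∈ MH D H) : target q ≤ H.index := by
  haveI : Fintype (fix D) := Fintype.ofFinite _
  have hK : Fintype.card (fix D) = q := by rw [← Nat.card_eq_fintype_card, card_fix]
  have hb : ∀ g ∈ MH D H, g.1 1 0 = 0 := fun g hg => by
    by_contra h
    exact hM (eq_top_of_upper (fun c => hsu c) hg h)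
  have hm : Nat.card (MH D H) ≤ q * (q - 1) := by
    have := card_le_borel hb
    rwa [hK] at this
  have hw := card_WH_le ha
  have hdz := DZ_cases ha
  have hqq := sq_sub_one q (by omega)
  obtain ⟨t, ht⟩ := Nat.exists_eq_add_of_le (show 1 ≤ q by omega)
  have hq1 : q - 1 = t := by omega
  rw [hq1] at hm hqq
  have hP : Nat.card (Pst D) = (q + 1) * t * (q * ((q + 1) * t) * q ^ 5) := by
    rw [card_Pst', hqq]
  have hone : 1 ≤ q ^ 3 := Nat.one_le_pow _ _ (by omega)
  rcases Nat.lt_or_eq_of_le hw with hlt | heq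
  · refine arith_bound (C := 2) (A := (q + 1) * t * 2) (B := q * t * Nat.card (WH D H))
      (Nat.mul_le_mul_right _ (hqq ▸ hdz.1)) (Nat.mul_le_mul_right _ hm) two_pos ?_
    calc target q * ((q + 1) * t * 2 * (q * t * Nat.card (WH D H)))
        = target q * ((q + 1) * t * (q * t * (2 * Nat.card (WH D H)))) := by ring
      _ ≤ target q * ((q + 1) * t * (q * t * q ^ 2)) :=
          Nat.mul_le_mul_left _ (Nat.mul_le_mul_left _ (Nat.mul_le_mul_left _ (two_mul_WH hlt)))
      _ = (q ^ 3 + 1) * ((q + 1) * t * ((q + 1) * t) * q ^ 3) := by unfold target; ring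
      _ ≤ (2 * q ^ 3) * ((q + 1) * t * ((q + 1) * t) * q ^ 3) :=
          Nat.mul_le_mul_right _ (by omega)
      _ = _ := by rw [hP]; ring
  by_cases hZ : ZH D H = ⊥
  swap
  · refine arith_bound (C := q + 1) (A := q * ((q + 1) * t)) (B := q * t * q ^ 2)
      (by rw [mul_comm]; exact hqq ▸ hdz.2 hZ) (Nat.mul_le_mul hm hw) (by omega) ?_
    calc target q * (q * ((q + 1) * t) * (q * t * q ^ 2))
        = (q ^ 3 + 1) * ((q + 1) * t * ((q + 1) * t) * q ^ 4) := by unfold target; ring
      _ ≤ (q ^ 2 * (q + 1)) * ((q + 1) * t * ((q + 1) * t) * q ^ 4) := by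
          refine Nat.mul_le_mul_right _ ?_
          calc q ^ 3 + 1 ≤ q ^ 3 + q ^ 2 := Nat.add_le_add_left (Nat.one_le_pow _ _ (by omega)) _
            _ = _ := by ring
      _ = _ := by rw [hP]; ring
  by_cases hfull : ∀ z, sd D z ∈ MH D H
  · exact borel_case hq ha hZ heq (hq1 ▸ hm) hsu hfull
  push Not at hfull
  obtain ⟨z, hz⟩ := hfull
  have h2m : 2 * Nat.card (MH D H) ≤ q * t := by
    have hle : MH D H ≤ borelSL := fun g hg => hb g hg
    have hdvd := Subgroup.card_dvd_of_le hle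
    rw [card_borelSL, hK, hq1, mul_comm] at hdvd
    obtain ⟨k, hk⟩ := hdvd
    have hne : Nat.card (MH D H) ≠ q * t := fun e => hz (by
      have : MH D H = borelSL := Subgroup.eq_of_le_of_card_ge hle (by
        rw [card_borelSL, hK, hq1, e, mul_comm])
      rw [this]
      exact mem_borelSL.2 (by simp [sd]))
    rcases k with _ | _ | k
    · rw [mul_zero, mul_eq_zero] at hk; omega
    · exact absurd (by rw [hk, zero_add, mul_one]) hne
    · rw [hk, mul_comm]; exact Nat.mul_le_mul_left _ (by omega)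
  refine arith_bound (C := 2) (A := (q + 1) * t * 2) (B := Nat.card (MH D H) * q ^ 2)
    (Nat.mul_le_mul_right _ (hqq ▸ hdz.1)) (Nat.mul_le_mul_left _ hw) two_pos ?_
  calc target q * ((q + 1) * t * 2 * (Nat.card (MH D H) * q ^ 2))
      = target q * ((q + 1) * t * (2 * Nat.card (MH D H) * q ^ 2)) := by ring
    _ ≤ target q * ((q + 1) * t * (q * t * q ^ 2)) :=
        Nat.mul_le_mul_left _ (Nat.mul_le_mul_left _ (Nat.mul_le_mul_right _ h2m))
    _ = (q ^ 3 + 1) * ((q + 1) * t * ((q + 1) * t) * q ^ 3) := by unfold target; ring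
    _ ≤ (2 * q ^ 3) * ((q + 1) * t * ((q + 1) * t) * q ^ 3) :=
        Nat.mul_le_mul_right _ (by omega)
    _ = _ := by rw [hP]; ring

theorem MH_conjH_top {H : Subgroup (GJ D)} (S : SpecialLinearGroup (Fin 2) (fix D))
    (h : MH D (conjH (lev D S) H) = ⊤) : MH D H = ⊤ := by
  refine eq_top_iff.2 fun T _ => ?_
  have h1 := MH_conjH_lev S⁻¹ (S * T * S⁻¹) (H := conjH (lev D S) H) (h ▸ trivial)
  rw [show S⁻¹ * (S * T * S⁻¹) * S⁻¹⁻¹ = T by group] at h1
  have e : conjH (lev D S⁻¹) (conjH (lev D S) H) = H := by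
    ext x
    simp [mem_conjH, mul_assoc]
  rwa [e] at h1

/-- `M` is a proper subgroup. -/
theorem proper_case {H : Subgroup (GJ D)} (hq : 3 ≤ q) (ha : ¬ Root H va) (hM : MH D H ≠ ⊤) :
    target q ≤ H.index := by
  haveI : Fintype (fix D) := Fintype.ofFinite _
  have hK : Fintype.card (fix D) = q := by rw [← Nat.card_eq_fintype_card, card_fix]
  obtain ⟨p, j, hp, hj, hqp⟩ := exists_prime_pow D
  by_cases hdvd : p ∣ (MH D H).index
  swap
  · obtain ⟨S, hS⟩ := exists_conj_upper hp (hK.trans hqp) hdvd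
    rw [← index_conjH (lev D S⁻¹)]
    refine upper_case hq (nonroot_conjH (lev_mem _) ha) (fun e => hM (MH_conjH_top _ e)) fun c => ?_
    have h := MH_conjH_lev S⁻¹ _ (hS c)
    rwa [show S⁻¹ * (S * upper c * S⁻¹) * S⁻¹⁻¹ = su D c by rw [su_eq_upper]; group] at h
  have hcardM : (MH D H).index * Nat.card (MH D H) = q * (q ^ 2 - 1) := by
    rw [Subgroup.index_mul_card, natCard_SL]
  have hdz := (DZ_cases ha).1
  have hw := card_WH_le ha
  have hone : 1 ≤ q ^ 3 := Nat.one_le_pow _ _ (by omega)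
  rcases Nat.lt_or_ge q (MH D H).index with hgt | hle
  · -- index at least `q + 2`
    have hne : (MH D H).index ≠ q + 1 := fun e => by
      rw [e] at hdvd
      have hpq : p ∣ q := hqp ▸ dvd_pow_self p (by omega)
      exact hp.not_dvd_one ((Nat.dvd_add_right hpq).1 hdvd)
    have hm : Nat.card (MH D H) * (q + 2) ≤ q * (q ^ 2 - 1) := by
      rw [← hcardM, mul_comm]; exact Nat.mul_le_mul_right _ (by omega)
    refine arith_bound (C := q + 2) (A := (q ^ 2 - 1) * (q + 2))
      (B := Nat.card (MH D H) * q ^ 2) (Nat.mul_le_mul_right _ hdz)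
      (Nat.mul_le_mul_left _ hw) (by omega) ?_
    calc target q * ((q ^ 2 - 1) * (q + 2) * (Nat.card (MH D H) * q ^ 2))
        = target q * ((q ^ 2 - 1) * (Nat.card (MH D H) * (q + 2) * q ^ 2)) := by ring
      _ ≤ target q * ((q ^ 2 - 1) * (q * (q ^ 2 - 1) * q ^ 2)) :=
          Nat.mul_le_mul_left _ (Nat.mul_le_mul_left _ (Nat.mul_le_mul_right _ hm))
      _ ≤ q ^ 3 * (q + 2) * ((q ^ 2 - 1) * (q * (q ^ 2 - 1) * q ^ 2)) := by
          refine Nat.mul_le_mul_right _ ?_
          unfold target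
          have : q + 1 ≤ q ^ 3 := by
            calc q + 1 ≤ q * q := by nlinarith
              _ ≤ _ := by rw [pow_succ, sq]; exact Nat.le_mul_of_pos_right _ (by omega)
          nlinarith
      _ = _ := by rw [card_Pst']; ring
  -- small index
  have hexc := exceptional hM (hK.symm ▸ hle)
  rw [hK] at hexc
  simp only [Finset.mem_insert, Finset.mem_singleton] at hexc
  have hodd : Odd q := by
    rcases hexc with e | e | e | e | e | e <;> subst e <;> first | omega | decide
  have hclosed : WClosed D H := by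
    refine closed_of_exceptional hle ?_
    rcases hexc with e | e | e | e | e | e
    · omega
    iterate 3 exact Or.inl (by rw [e]; norm_num)
    · refine Or.inr ⟨e, ?_⟩
      subst e
      rwa [(Nat.prime_dvd_prime_iff_eq hp Nat.prime_three).1
        (hp.dvd_of_dvd_pow (show p ∣ 3 ^ 2 by
          rw [show (3 : ℕ) ^ 2 = 9 from rfl, hqp]; exact dvd_pow_self p (by omega)))] at hdvd
    · exact Or.inl (by rw [e]; norm_num)
  have hbig : q ^ 2 - 1 ≤ Nat.card (MH D H) := by
    refine Nat.le_of_mul_le_mul_left ?_ (show 0 < q by omega)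
    rw [← hcardM]; exact Nat.mul_le_mul_right _ hle
  have hne := card_WH_ne hq hodd ha hclosed hbig
  -- a subspace of size less than `q²` has size at most `q`
  have hwq : Nat.card (WH D H) ≤ q := by
    let W' : Submodule (fix D) (F × F) :=
      { carrier := WH D H, add_mem' := (WH D H).add_mem', zero_mem' := (WH D H).zero_mem',
        smul_mem' := fun r x hx => hclosed r x hx }
    have e : Nat.card (WH D H) = q ^ Module.finrank (fix D) W' := by
      have h := Module.natCard_eq_pow_finrank (K := fix D) (V := W')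
      rw [card_fix] at h
      exact h
    rw [e] at hw hne ⊢
    have hk : Module.finrank (fix D) W' ≤ 1 := by
      have h1 := (Nat.pow_le_pow_iff_right (by omega : 1 < q)).1 hw
      have h2 : Module.finrank (fix D) W' ≠ 2 := fun e => hne (by rw [e])
      omega
    calc q ^ _ ≤ q ^ 1 := Nat.pow_le_pow_right (by omega) hk
      _ = q := pow_one q
  have h2m : 2 * Nat.card (MH D H) ≤ q * (q ^ 2 - 1) := by
    rw [← hcardM]
    refine Nat.mul_le_mul_right _ ?_
    have h1 : (MH D H).index ≠ 1 := fun e => hM (Subgroup.index_eq_one.1 e)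
    have h0 : (MH D H).index ≠ 0 := Subgroup.index_ne_zero_of_finite
    omega
  refine arith_bound (C := 2) (A := (q ^ 2 - 1) * 2) (B := Nat.card (MH D H) * q)
    (Nat.mul_le_mul_right _ hdz) (Nat.mul_le_mul_left _ hwq) two_pos ?_
  calc target q * ((q ^ 2 - 1) * 2 * (Nat.card (MH D H) * q))
      = target q * ((q ^ 2 - 1) * (2 * Nat.card (MH D H) * q)) := by ring
    _ ≤ target q * ((q ^ 2 - 1) * (q * (q ^ 2 - 1) * q)) :=
        Nat.mul_le_mul_left _ (Nat.mul_le_mul_left _ (Nat.mul_le_mul_right _ h2m))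
    _ ≤ 2 * q ^ 4 * ((q ^ 2 - 1) * (q * (q ^ 2 - 1) * q)) := by
        refine Nat.mul_le_mul_right _ ?_
        unfold target
        have : q + 1 ≤ q ^ 3 := by
          calc q + 1 ≤ q * q := by nlinarith
            _ ≤ _ := by rw [pow_succ, sq]; exact Nat.le_mul_of_pos_right _ (by omega)
        nlinarith
    _ = _ := by rw [card_Pst']; ring

end Cfsg.Agent.Lib.MinIndexU4
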