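import Cfsg.Agent.Lib.MinIndexU4.Local
import Cfsg.Agent.Lib.PSUAut.Transvection
import Cfsg.Agent.Lib.MinDegree.UnitaryBase
import Cfsg.Agent.Lib.Classical.LowRank.Index
import Cfsg.Agent.Lib.Classical.UnitaryCount
import Cfsg.Agent.Lib.Classical.UnitaryStandard
import Cfsg.Prelude.Def_ClassicalGeometry

/-!
# Minimal index in `SU₄(q)`: the isomorphism with the standard model, counts, transitivity,
generation by transvections
-/

set_option autoImplicit false
set_option linter.unusedSectionVars false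

namespace Cfsg.Agent.Lib.MinIndexU4

open Matrix

variable {F : Type*} [Field F] [Fintype F] {q : ℕ}

theorem exists_dat (hF : Fintype.card F = q ^ 2) : Nonempty (Dat F q) := by
  obtain ⟨d, hd0, hd⟩ := (Classical.hermSpace_std hF 1).exists_skew
  rw [Forms.qPowHom_apply] at hd
  exact ⟨⟨hF, d, hd0, by linear_combination hd⟩⟩

variable (D : Dat F q)

theorem card_fix : Nat.card (fix D) = q := by
  refine Eq.trans ?_ (MinDegree.card_skew D.card)
  have hmem : ∀ x : F, x ∈ MinDegree.skew (Forms.qPowHom D.card) ↔ cj D x = -x := fun x => by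
    rw [MinDegree.mem_skew, cj_pow, Forms.qPowHom_apply, add_comm, add_eq_zero_iff_eq_neg]
  refine Nat.card_congr
    { toFun := fun k => ⟨D.dl * k, (hmem _).2 (by simp)⟩
      invFun := fun c => ⟨(c : F) / D.dl, by
        rw [mem_fix, map_div₀, cj_dl, (hmem _).1 c.2, neg_div_neg_eq]⟩
      left_inv := fun k => Subtype.ext (by simp [D.dl_ne])
      right_inv := fun c => Subtype.ext (by simp [mul_div_cancel₀ _ D.dl_ne]) }

include D in
theorem natCard_F : Nat.card F = q ^ 2 := by rw [Nat.card_eq_fintype_card, D.card]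

include D in
theorem natCard_units : Nat.card Fˣ = q ^ 2 - 1 := by rw [Nat.card_units, natCard_F D]

theorem natCard_SL : Nat.card (SpecialLinearGroup (Fin 2) (fix D)) = q * (q ^ 2 - 1) := by
  haveI : Fintype (fix D) := Fintype.ofFinite _
  rw [Classical.LowRank.natCard_SL_two, ← Nat.card_eq_fintype_card, card_fix]

theorem card_Fa' : Nat.card (Fa D) = q * (q ^ 2 - 1) * q ^ 5 := by
  rw [card_Fa, natCard_SL, natCard_F D, card_fix]; ring

theorem card_Pst' : Nat.card (Pst D) = (q ^ 2 - 1) * (q * (q ^ 2 - 1) * q ^ 5) := by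
  rw [card_Pst, card_Fa', natCard_units D]

/-- A basis of the standard space with the model form. -/
theorem exists_basis : ∃ P : (Fin 4 → F) ≃ₗ[F] (Fin 4 → F),
    ∀ v w, Cfsg.hermForm 4 F q (P v) (P w) = bf D v w := by
  have hF := D.card
  obtain ⟨e, he⟩ := Classical.exists_split hF 2
  obtain ⟨e0, he0⟩ := Classical.exists_split hF 0
  let φ : (Fin 4 → F) →ₗ[F] (Fin 4 → F) :=
    { toFun := fun v => e (v 0, v 3, e0 (v 1, -D.dl * v 2, 0))
      map_add' := fun v w => by
        rw [← map_add, Prod.mk_add_mk, Prod.mk_add_mk, ← map_add, Prod.mk_add_mk, Prod.mk_add_mk]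
        simp only [Pi.add_apply, add_zero]
        congr 5
        ring
      map_smul' := fun c v => by
        rw [RingHom.id_apply, ← map_smul, Prod.smul_mk, Prod.smul_mk, ← map_smul, Prod.smul_mk,
          Prod.smul_mk]
        simp only [Pi.smul_apply, smul_eq_mul, smul_zero]
        congr 5
        ring }
  have hφ : ∀ v w, Cfsg.hermForm 4 F q (φ v) (φ w) = bf D v w := fun v w => by
    show Cfsg.hermForm (2 + 2) F q (e _) (e _) = _
    rw [he]
    simp only [Classical.uExt]
    rw [he0]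
    simp only [Classical.uExt, Forms.qPowHom_apply, bf, ← cj_pow D, Cfsg.hermForm,
      Finset.univ_eq_empty, Finset.sum_empty, map_mul, map_neg, cj_dl]
    ring
  have hinj : Function.Injective φ := by
    rw [← LinearMap.ker_eq_bot, LinearMap.ker_eq_bot']
    intro v hv
    have hz : ∀ w, bf D v w = 0 := fun w => by
      rw [← hφ, hv, (Classical.hermSpace_std hF 4).zero_left]
    funext i
    fin_cases i
    · simpa [bf] using hz ![0, 0, 0, 1]
    · simpa [bf, D.dl_ne] using hz ![0, 0, 1, 0]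
    · simpa [bf, D.dl_ne] using hz ![0, 1, 0, 0]
    · simpa [bf] using hz ![1, 0, 0, 0]
  exact ⟨LinearEquiv.ofBijective φ ⟨hinj, φ.surjective_of_injective hinj⟩, hφ⟩

/-- The basis of the standard space. -/
noncomputable def P : (Fin 4 → F) ≃ₗ[F] (Fin 4 → F) := (exists_basis D).choose

theorem herm_P (v w : Fin 4 → F) : Cfsg.hermForm 4 F q (P D v) (P D w) = bf D v w :=
  (exists_basis D).choose_spec v w

theorem exists_equiv_SU : ∃ φ : GJ D ≃* Cfsg.SU 4 F q,
    ∀ g v, PSUAut.act (φ g) (P D v) = P D (act g v) := by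
  set A := LinearMap.toMatrix' (P D).toLinearMap
  set B := LinearMap.toMatrix' (P D).symm.toLinearMap
  have hA : ∀ v, A *ᵥ v = P D v := fun v => by rw [← Matrix.toLin'_apply]; simp [A]
  have hB : ∀ v, B *ᵥ v = (P D).symm v := fun v => by rw [← Matrix.toLin'_apply]; simp [B]
  have hAB : A * B = 1 := Matrix.ext_iff_mulVec.2 fun v => by simp [← mulVec_mulVec, hA, hB]
  have hBA : B * A = 1 := Matrix.ext_iff_mulVec.2 fun v => by simp [← mulVec_mulVec, hA, hB]
  have hd : A.det * B.det = 1 := by rw [← det_mul, hAB, det_one]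
  let toF : GJ D → Cfsg.SU 4 F q := fun g => ⟨⟨A * g.1.1 * B, by
      rw [det_mul, det_mul, g.1.2, mul_one, hd]⟩, fun v w => by
      show Cfsg.hermForm 4 F q ((A * g.1.1 * B) *ᵥ v) ((A * g.1.1 * B) *ᵥ w) =
        Cfsg.hermForm 4 F q v w
      rw [← mulVec_mulVec, ← mulVec_mulVec, ← mulVec_mulVec, ← mulVec_mulVec, hA, hA, herm_P, g.2,
        ← herm_P, hB, hB, LinearEquiv.apply_symm_apply, LinearEquiv.apply_symm_apply]⟩
  let invF : Cfsg.SU 4 F q → GJ D := fun g => ⟨⟨B * g.1.1 * A, by
      rw [det_mul, det_mul, g.1.2, mul_one, mul_comm, hd]⟩, fun v w => by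
      show bf D ((B * g.1.1 * A) *ᵥ v) ((B * g.1.1 * A) *ᵥ w) = bf D v w
      rw [← mulVec_mulVec, ← mulVec_mulVec, ← mulVec_mulVec, ← mulVec_mulVec, hB, hB, ← herm_P,
        LinearEquiv.apply_symm_apply, LinearEquiv.apply_symm_apply, hA, hA, ← herm_P D v w]
      exact g.2 _ _⟩
  refine ⟨{
    toFun := toF
    invFun := invF
    left_inv := fun g => Subtype.ext (Subtype.ext (by
      show B * (A * g.1.1 * B) * A = g.1.1
      rw [← mul_assoc, ← mul_assoc, hBA, one_mul, mul_assoc, hBA, mul_one]))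
    right_inv := fun g => Subtype.ext (Subtype.ext (by
      show A * (B * g.1.1 * A) * B = g.1.1
      rw [← mul_assoc, ← mul_assoc, hAB, one_mul, mul_assoc, hAB, mul_one]))
    map_mul' := fun g h => Subtype.ext (Subtype.ext (by
      show A * (g.1.1 * h.1.1) * B = A * g.1.1 * B * (A * h.1.1 * B)
      rw [show A * g.1.1 * B * (A * h.1.1 * B) = A * g.1.1 * (B * A) * h.1.1 * B by
        simp only [mul_assoc], hBA, mul_one, ← mul_assoc A])) }, fun g v => ?_⟩
  show (A * g.1.1 * B) *ᵥ P D v = _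
  rw [← mulVec_mulVec, ← mulVec_mulVec, hB, LinearEquiv.symm_apply_apply, hA]
  rfl

/-- The isomorphism with the standard group. -/
noncomputable def toSU : GJ D ≃* Cfsg.SU 4 F q := (exists_equiv_SU D).choose

theorem act_toSU (g : GJ D) (v : Fin 4 → F) :
    PSUAut.act (toSU D g) (P D v) = P D (act g v) := (exists_equiv_SU D).choose_spec g v

/-- Nonzero isotropic vectors. -/
def IsIso (v : Fin 4 → F) : Prop := v ≠ 0 ∧ bf D v v = 0

theorem isIso_va : IsIso D va := ⟨va_ne, by simp [bf, va]⟩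

theorem card_isIso :
    Nat.card {v : Fin 4 → F // IsIso D v} = (q ^ 2 - 1) * ((q ^ 2 + 1) * (q ^ 3 + 1)) := by
  classical
  have h := Classical.natCard_hermForm_zero D.card 4
  rw [if_pos (by decide)] at h
  have e : {v : Fin 4 → F // IsIso D v} ≃
      {v : {v : Fin 4 → F // Cfsg.hermForm 4 F q v v = 0} // v.1 ≠ 0} :=
    { toFun := fun v => ⟨⟨P D v.1, by rw [herm_P]; exact v.2.2⟩,
        fun h0 => v.2.1 ((P D).map_eq_zero_iff.1 h0)⟩
      invFun := fun v => ⟨(P D).symm v.1.1, fun h0 => v.2 ((P D).symm.map_eq_zero_iff.1 h0), by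
        rw [← herm_P, LinearEquiv.apply_symm_apply]; exact v.1.2⟩
      left_inv := fun v => Subtype.ext ((P D).symm_apply_apply _)
      right_inv := fun v => Subtype.ext (Subtype.ext ((P D).apply_symm_apply _)) }
  rw [Nat.card_congr e, Nat.card_eq_fintype_card, Fintype.card_subtype_compl,
    ← Nat.card_eq_fintype_card, h]
  have h1 : Fintype.card {v : {v : Fin 4 → F // Cfsg.hermForm 4 F q v v = 0} // v.1 = 0} = 1 :=
    Fintype.card_eq_one_iff.2 ⟨⟨⟨0, (Classical.hermSpace_std D.card 4).zero_left _⟩, rfl⟩,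
      fun v => Subtype.ext (Subtype.ext v.2)⟩
  rw [h1, Nat.add_sub_cancel, show q ^ (4 - 1) = q ^ 3 from rfl,
    show q ^ 4 = q ^ 2 * q ^ 2 from by ring]
  obtain ⟨t, ht⟩ := Nat.exists_eq_add_of_le (Nat.one_le_pow 2 q (by have := two_le D; omega))
  rw [ht, Nat.add_sub_cancel_left, show (1 + t) * (1 + t) = t * (1 + t + 1) + 1 by ring,
    Nat.add_sub_cancel]
  ring

theorem exists_act_va {v : Fin 4 → F} (hv : IsIso D v) : ∃ g : GJ D, act g va = v := by
  have h0 : ∀ {w}, IsIso D w → P D w ≠ 0 ∧ Cfsg.hermForm 4 F q (P D w) (P D w) = 0 :=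
    fun hw => ⟨fun h => hw.1 ((P D).map_eq_zero_iff.1 h), by rw [herm_P]; exact hw.2⟩
  obtain ⟨s, hs⟩ := PSUAut.exists_act_eq D.card (by norm_num) (h0 (isIso_va D)).1
    (h0 (isIso_va D)).2 (h0 hv).1 (h0 hv).2
  obtain ⟨g, rfl⟩ := (toSU D).surjective s
  exact ⟨g, (P D).injective (by rw [← act_toSU, hs])⟩

theorem index_Fa : (Fa D).index = (q ^ 2 - 1) * ((q ^ 2 + 1) * (q ^ 3 + 1)) := by
  rw [← card_isIso D]
  letI : MulAction (GJ D) (Fin 4 → F) :=
    { smul := fun g v => act g v, one_smul := act_one, mul_smul := act_mul }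
  have hK : Fa D = MulAction.stabilizer (GJ D) (va : Fin 4 → F) := rfl
  rw [hK, MulAction.index_stabilizer, ← Nat.card_coe_set_eq]
  refine congrArg (fun s : Set (Fin 4 → F) => Nat.card s) (?_ : _ = {v | IsIso D v})
  ext v
  constructor
  · rintro ⟨g, rfl⟩
    refine ⟨fun h => va_ne (F := F) ?_, (bf_act g _ _).trans (isIso_va D).2⟩
    rw [← act_inv_act g va, show act g va = 0 from h]
    simp [act]
  · intro hv
    obtain ⟨g, hg⟩ := exists_act_va D hv
    exact ⟨g, hg⟩

theorem index_Pst : (Pst D).index = (q ^ 2 + 1) * (q ^ 3 + 1) := by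
  have h := Subgroup.relIndex_mul_index (Fa_le D)
  have hr : (Fa D).relIndex (Pst D) = q ^ 2 - 1 := by
    show ((Fa D).subgroupOf (Pst D)).index = _
    rw [← tHom_ker, Subgroup.index_ker, MonoidHom.range_eq_top.2 (tHom_surjective D),
      Subgroup.card_top, natCard_units D]
  rw [hr, index_Fa] at h
  refine Nat.eq_of_mul_eq_mul_left ?_ h
  have := two_le D
  have : 4 ≤ q ^ 2 := by nlinarith
  omega

/-- A subgroup containing every transvection is everything. -/
theorem eq_top_of_roots {H : Subgroup (GJ D)} (h : ∀ u, IsIso D u → Root H u) : H = ⊤ := by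
  have hgen := Classical.closure_transvections_SU D.card 2 (by norm_num) (by omega)
  suffices hle : (⊤ : Subgroup (Cfsg.SU 4 F q)) ≤ H.map (toSU D).toMonoidHom by
    refine eq_top_iff.2 fun g _ => ?_
    obtain ⟨g', hg', e⟩ := hle (Subgroup.mem_top (toSU D g))
    rwa [← (toSU D).injective e]
  refine hgen.ge.trans ((Subgroup.closure_le _).2 fun A hA => ?_)
  obtain ⟨w, c, hw, hA⟩ := hA
  obtain ⟨g, rfl⟩ := (toSU D).surjective A
  refine ⟨g, ?_, rfl⟩
  obtain ⟨v, rfl⟩ := (P D).surjective w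
  have key : ∀ x, act g x = x + (c * bf D x v) • v := fun x => by
    refine (P D).injective ?_
    rw [← act_toSU, PSUAut.act, Classical.suLinear_apply, hA,
      Forms.unitaryTransvection_mulVec, herm_P, map_add, map_smul]
  by_cases hv : v = 0
  · rw [show g = 1 from ext_act fun x => by rw [key, act_one, hv, smul_zero, add_zero]]
    exact H.one_mem
  have hiso : IsIso D v := ⟨hv, by rw [← herm_P]; exact hw⟩
  obtain ⟨i, hi⟩ : ∃ x, bf D x v ≠ 0 := by
    by_contra hne
    push Not at hne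
    refine hv (funext fun i => ?_)
    fin_cases i
    · simpa [bf] using hne ![0, 0, 0, 1]
    · simpa [bf, D.dl_ne] using hne ![0, 0, 1, 0]
    · simpa [bf, D.dl_ne] using hne ![0, 1, 0, 0]
    · simpa [bf] using hne ![1, 0, 0, 0]
  have hsw : bf D v i = cj D (bf D i v) := by simp [bf]; ring
  have hskew : cj D c = -c := by
    have e := bf_act g i i
    rw [key] at e
    have e' : bf D (i + (c * bf D i v) • v) (i + (c * bf D i v) • v) = bf D i i +
        (bf D i v * cj D (bf D i v)) * (c + cj D c) + (c * bf D i v) * cj D (c * bf D i v) * bf D v v := by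
      rw [map_mul, ← hsw]
      simp [bf]
      ring
    rw [e', hiso.2, mul_zero, add_zero, add_eq_left, mul_eq_zero, mul_eq_zero, map_eq_zero] at e
    rcases e with (e | e) | e
    · exact absurd e hi
    · exact absurd e hi
    · linear_combination e
  obtain ⟨x, hx, hT⟩ := h v hiso ⟨c / D.dl, by rw [mem_fix, map_div₀, cj_dl, hskew, neg_div_neg_eq]⟩
  rwa [show g = x from ext_act fun y => by rw [key, hT]; simp [mul_div_cancel₀ _ D.dl_ne]]

end Cfsg.Agent.Lib.MinIndexU4
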